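import Groth.Agent.CohAcyc.Basic
import Mathlib.CategoryTheory.Sites.EpiMono
import Mathlib.CategoryTheory.Sites.Subsheaf

/-! # Sections, acyclicity on objects -/

universe u

open CategoryTheory CategoryTheory.Limits CategoryTheory.Abelian Opposite

namespace Groth.Agent.CohAcyc

variable {C : Type u} [SmallCategory C] {J : GrothendieckTopology C}

/-- maps out of `Z[h_U]` are sections over `U` -/
noncomputable def secEquiv (U : C) (F : Ab J) : ((zF J).obj (yonSh J U) ⟶ F) ≃ F.obj.obj (op U) :=
  ((zAdj J).homEquiv _ _).trans (((sheafificationAdjunction J (Type u)).homEquiv _ _).trans yonedaEquiv)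

lemma secEquiv_comp (U : C) {F G : Ab J} (φ : (zF J).obj (yonSh J U) ⟶ F) (h : F ⟶ G) :
    secEquiv U G (φ ≫ h) = h.hom.app (op U) (secEquiv U F φ) := by
  simp only [secEquiv, Equiv.trans_apply]
  rw [Adjunction.homEquiv_naturality_right, Adjunction.homEquiv_naturality_right]
  rfl

lemma lift_iff_surjective (U : C) {F G : Ab J} (h : F ⟶ G) :
    (∀ s : (zF J).obj (yonSh J U) ⟶ G, ∃ t, t ≫ h = s) ↔ Function.Surjective (h.hom.app (op U)) := by
  refine ⟨fun hl s => ?_, fun hs s => ?_⟩
  · obtain ⟨t, ht⟩ := hl ((secEquiv U G).symm s)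
    exact ⟨secEquiv U F t, by rw [← secEquiv_comp, ht, Equiv.apply_symm_apply]⟩
  · obtain ⟨t, ht⟩ := hs (secEquiv U G s)
    exact ⟨(secEquiv U F).symm t, (secEquiv U G).injective (by
      rw [secEquiv_comp, Equiv.apply_symm_apply, ht])⟩

lemma surjective_of_acyclic {S : ShortComplex (Ab J)} (hS : S.ShortExact) (U : C)
    (h : Subsingleton (CohSite.HU S.X₁ 1 U)) : Function.Surjective (S.g.hom.app (op U)) :=
  (lift_iff_surjective U S.g).1 (lift_of_subsingleton hS ((subsingleton_HU_iff _ _ _).1 h))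

/-- the injective embedding sequence -/
noncomputable abbrev injSeq (F : Ab J) : ShortComplex (Ab J) :=
  ShortComplex.mk (Injective.ι F) (cokernel.π _) (cokernel.condition _)

lemma injSeq_shortExact (F : Ab J) : (injSeq F).ShortExact :=
  { exact := ShortComplex.exact_cokernel _ }

lemma acyclic_injSeq_quot {F : Ab J} (hF : ∀ (U : C) (q : ℕ), Subsingleton (CohSite.HU F (q + 1) U))
    (U : C) (q : ℕ) : Subsingleton (CohSite.HU (injSeq F).X₃ (q + 1) U) :=
  subsingleton_quot_of_ses (injSeq_shortExact F) (Ext.subsingleton_of_injective _ _ q) (hF U (q + 1))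

lemma shortExact_of_rightExact {A B : Type*} [Category* A] [Category* B] [Abelian A] [Abelian B]
    (R : A ⥤ B) [R.Additive] [PreservesFiniteLimits R] {S : ShortComplex A} (hS : S.ShortExact)
    (he : Epi (R.map S.g)) : (S.map R).ShortExact where
  exact := by
    haveI := hS.mono_f
    exact ShortComplex.exact_of_f_is_kernel _
      (KernelFork.mapIsLimit _ hS.fIsKernel R)
  mono_f := by haveI := hS.mono_f; exact R.map_mono S.f
  epi_g := he

lemma epi_of_surjective {F G : Ab J} (h : F ⟶ G) (hs : ∀ U, Function.Surjective (h.hom.app (op U))) :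
    Epi h := by
  haveI : Sheaf.IsLocallySurjective h :=
    Presheaf.isLocallySurjective_of_surjective J h.hom fun U => hs U.unop
  exact (Sheaf.isLocallySurjective_iff_epi' (A := AddCommGrpCat.{u}) h).1 ‹_›

section Push

variable {D : Type u} [SmallCategory D] {K : GrothendieckTopology D} (u : D ⥤ C) [u.IsContinuous K J]

theorem shortExact_push {S : ShortComplex (Ab J)} (hS : S.ShortExact)
    (hs : ∀ U, Function.Surjective (S.g.hom.app (op U))) : (S.map (CohSite.push J K u)).ShortExact :=
  haveI : PreservesLimitsOfSize.{0, 0} (CohSite.push J K u) :=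
    (u.sheafAdjunctionContinuous AddCommGrpCat.{u} K J).rightAdjoint_preservesLimits
  shortExact_of_rightExact _ hS (epi_of_surjective _ fun V => hs (u.obj V))

variable [PreservesFiniteLimits (u.sheafPullback (Type u) K J)]

theorem subsingleton_HU_push (q : ℕ) : ∀ (F : Ab J),
    (∀ (U : C) (q : ℕ), Subsingleton (CohSite.HU F (q + 1) U)) →
      ∀ V : D, Subsingleton (CohSite.HU ((CohSite.push J K u).obj F) (q + 1) V) := by
  induction q with
  | zero =>
    intro F hF V
    have hS := shortExact_push (K := K) u (injSeq_shortExact F)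
      (fun U => surjective_of_acyclic (injSeq_shortExact F) U (hF U 0))
    exact (subsingleton_HU_iff _ _ _).2 (subsingleton_one_of_lift hS
      (isTotallyAcyclic_push u (isTotallyAcyclic_of_injective _) _ 0)
      ((lift_iff_surjective V _).2 (surjective_of_acyclic (injSeq_shortExact F) (u.obj V) (hF _ 0))))
  | succ q ih =>
    intro F hF V
    have hS := shortExact_push (K := K) u (injSeq_shortExact F)
      (fun U => surjective_of_acyclic (injSeq_shortExact F) U (hF U 0))
    exact (subsingleton_HU_iff _ _ _).2 (subsingleton_succ_of_ses hS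
      ((subsingleton_HU_iff _ _ _).1 (ih _ (acyclic_injSeq_quot hF) V))
      (isTotallyAcyclic_push u (isTotallyAcyclic_of_injective _) _ (q + 1)))

end Push

/-- the map on free sheaves of an arrow -/
noncomputable abbrev freeMap {U V : C} (f : V ⟶ U) : CohCx.freeSheaf J V ⟶ CohCx.freeSheaf J U :=
  (yoneda ⋙ (Functor.whiskeringRight _ _ _).obj AddCommGrpCat.free ⋙ presheafToSheaf _ _).map f

/-- maps out of `CohCx.freeSheaf J U` are sections over `U` -/
noncomputable def secEquiv' (U : C) (F : Ab J) : (CohCx.freeSheaf J U ⟶ F) ≃ F.obj.obj (op U) :=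
  ((freeSheafIso U).homFromEquiv).trans (secEquiv U F)

lemma secEquiv'_comp (U : C) {F G : Ab J} (φ : CohCx.freeSheaf J U ⟶ F) (h : F ⟶ G) :
    secEquiv' U G (φ ≫ h) = h.hom.app (op U) (secEquiv' U F φ) := by
  simp only [secEquiv', Equiv.trans_apply, Iso.homFromEquiv_apply, ← secEquiv_comp, Category.assoc]

lemma freeMap_iso {U V : C} (f : V ⟶ U) : freeMap (J := J) f ≫ (freeSheafIso U).hom =
    (freeSheafIso V).hom ≫ (zF J).map ((presheafToSheaf J (Type u)).map (yoneda.map f)) := by
  refine (((presheafToSheaf J AddCommGrpCat.{u}).map_comp _ _).symm.trans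
    (congrArg (presheafToSheaf J AddCommGrpCat.{u}).map ?_)).trans
      ((presheafToSheaf J AddCommGrpCat.{u}).map_comp _ _)
  exact (((Functor.whiskeringRight _ _ _).obj AddCommGrpCat.free).map_comp _ _).symm.trans
    ((congrArg _ ((sheafificationAdjunction J (Type u)).unit.naturality (yoneda.map f))).trans
      (((Functor.whiskeringRight _ _ _).obj AddCommGrpCat.free).map_comp _ _))

lemma secEquiv'_naturality {U V : C} (f : V ⟶ U) (F : Ab J) (φ : CohCx.freeSheaf J U ⟶ F) :
    secEquiv' V F (freeMap f ≫ φ) = F.obj.map f.op (secEquiv' U F φ) := by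
  have h : (freeSheafIso V).inv ≫ freeMap f ≫ φ =
      (zF J).map ((presheafToSheaf J (Type u)).map (yoneda.map f)) ≫ (freeSheafIso U).inv ≫ φ := by
    rw [Iso.inv_comp_eq, ← Category.assoc ((freeSheafIso V).hom), ← freeMap_iso, Category.assoc,
      Iso.hom_inv_id_assoc]
  simp only [secEquiv', Equiv.trans_apply, Iso.homFromEquiv_apply, h]
  simp only [secEquiv, Equiv.trans_apply]
  rw [Adjunction.homEquiv_naturality_left, Adjunction.homEquiv_naturality_left]
  exact (yonedaEquiv_naturality _ f).symm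

lemma freeMap_factor {U V : C} {F G : Ab J} (g : F ⟶ G) (f : V ⟶ U) (s : CohCx.freeSheaf J U ⟶ G)
    (t : F.obj.obj (op V)) (ht : g.hom.app (op V) t = G.obj.map f.op (secEquiv' U G s)) :
    freeMap f ≫ s = (secEquiv' V F).symm t ≫ g := by
  apply (secEquiv' V G).injective
  rw [secEquiv'_naturality, secEquiv'_comp, Equiv.apply_symm_apply, ht]

/-- A cohomology class vanishes on a covering. -/
theorem exists_cover_kill (n : ℕ) : ∀ (F : Ab J) (U : C) (ξ : CohSite.HU F (n + 1) U),
    ∃ (S : J.Cover U), ∀ (a : S.Arrow), CohSite.res F (n + 1) a.f ξ = 0 := by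
  induction n with
  | zero =>
    intro F U ξ
    let ξ' : Ext (CohCx.freeSheaf J U) F 1 := ξ
    obtain ⟨x, hx⟩ := Ext.covariant_sequence_exact₁ _ (injSeq_shortExact F) ξ'
      (Ext.eq_zero_of_injective _) (zero_add 1)
    obtain ⟨s, rfl⟩ := Ext.addEquiv₀.symm.surjective x
    let g := (injSeq F).g
    haveI : Presheaf.IsLocallySurjective J g.hom :=
      (Sheaf.isLocallySurjective_iff_epi' (A := AddCommGrpCat.{u}) g).2 inferInstance
    refine ⟨⟨Presheaf.imageSieve g.hom (secEquiv' U _ s), Presheaf.imageSieve_mem J g.hom _⟩, fun a => ?_⟩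
    obtain ⟨t, ht⟩ := a.hf
    show (Ext.mk₀ (freeMap a.f)).comp ξ' (zero_add 1) = 0
    rw [← hx]
    show (Ext.mk₀ (freeMap a.f)).comp ((Ext.mk₀ s).comp _ _) _ = 0
    rw [← Ext.comp_assoc_of_second_deg_zero, Ext.mk₀_comp_mk₀, freeMap_factor g a.f s t ht,
      ← Ext.mk₀_comp_mk₀, Ext.comp_assoc_of_second_deg_zero, ShortComplex.ShortExact.comp_extClass,
      Ext.comp_zero]
  | succ n ih =>
    intro F U ξ
    let ξ' : Ext (CohCx.freeSheaf J U) F (n + 2) := ξ
    obtain ⟨x, hx⟩ := Ext.covariant_sequence_exact₁ _ (injSeq_shortExact F) ξ'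
      (Ext.eq_zero_of_injective _) rfl
    obtain ⟨S, hS⟩ := ih (injSeq F).X₃ U x
    refine ⟨S, fun a => ?_⟩
    show (Ext.mk₀ (freeMap a.f)).comp ξ' (zero_add _) = 0
    have h0 : (Ext.mk₀ (freeMap a.f)).comp x (zero_add _) = 0 := hS a
    rw [← hx, ← Ext.comp_assoc (Ext.mk₀ (freeMap a.f)) x _ (zero_add _) rfl (by omega), h0, Ext.zero_comp]

end Groth.Agent.CohAcyc
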