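import Mathlib.Algebra.Homology.DerivedCategory.Ext.ExactSequences
import Mathlib.Algebra.Homology.DerivedCategory.Ext.EnoughInjectives
import Mathlib.CategoryTheory.Abelian.Injective.Basic
import Mathlib.Algebra.Homology.QuasiIso
import Mathlib.Algebra.Homology.SingleHomology
import Mathlib.CategoryTheory.Abelian.Exact

/-! # Acyclicity through resolutions: abstract part -/

universe w v u

open CategoryTheory CategoryTheory.Limits CategoryTheory.Abelian

namespace Groth.Agent.CohAcyc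

variable {A : Type u} [Category.{v} A] [Abelian A] [HasExt.{w} A]

/-- sections of a short exact sequence lift when the first cohomology of the sub-object vanishes -/
lemma lift_of_subsingleton {S : ShortComplex A} (hS : S.ShortExact) {X : A}
    (h : Subsingleton (Ext X S.X₁ 1)) (s : X ⟶ S.X₃) : ∃ t : X ⟶ S.X₂, t ≫ S.g = s := by
  obtain ⟨x, hx⟩ := Ext.covariant_sequence_exact₃ X hS (Ext.mk₀ s) (zero_add 1) (Subsingleton.elim _ _)
  obtain ⟨t, rfl⟩ := Ext.addEquiv₀.symm.surjective x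
  exact ⟨t, Ext.addEquiv₀.symm.injective ((Ext.mk₀_comp_mk₀ t S.g).symm.trans hx)⟩

lemma subsingleton_one_of_lift {S : ShortComplex A} (hS : S.ShortExact) {X : A}
    (h₂ : Subsingleton (Ext X S.X₂ 1)) (hl : ∀ s : X ⟶ S.X₃, ∃ t : X ⟶ S.X₂, t ≫ S.g = s) :
    Subsingleton (Ext X S.X₁ 1) :=
  subsingleton_of_forall_eq 0 fun x => by
    obtain ⟨y, hy⟩ := Ext.covariant_sequence_exact₁ X hS x (Subsingleton.elim _ _) (zero_add 1)
    obtain ⟨s, rfl⟩ := Ext.addEquiv₀.symm.surjective y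
    obtain ⟨t, rfl⟩ := hl s
    rw [← hy]
    show (Ext.mk₀ (t ≫ S.g)).comp hS.extClass _ = 0
    rw [← Ext.mk₀_comp_mk₀, Ext.comp_assoc_of_second_deg_zero, ShortComplex.ShortExact.comp_extClass,
      Ext.comp_zero]

lemma subsingleton_succ_of_ses {S : ShortComplex A} (hS : S.ShortExact) {X : A} {q : ℕ}
    (h₃ : Subsingleton (Ext X S.X₃ q)) (h₂ : Subsingleton (Ext X S.X₂ (q + 1))) :
    Subsingleton (Ext X S.X₁ (q + 1)) :=
  subsingleton_of_forall_eq 0 fun x => by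
    obtain ⟨y, hy⟩ := Ext.covariant_sequence_exact₁ X hS x (Subsingleton.elim _ _) rfl
    rw [← hy, Subsingleton.elim y 0, Ext.zero_comp]

lemma subsingleton_quot_of_ses {S : ShortComplex A} (hS : S.ShortExact) {X : A} {q : ℕ}
    (h₂ : Subsingleton (Ext X S.X₂ q)) (h₁ : Subsingleton (Ext X S.X₁ (q + 1))) :
    Subsingleton (Ext X S.X₃ q) :=
  subsingleton_of_forall_eq 0 fun x => by
    obtain ⟨y, hy⟩ := Ext.covariant_sequence_exact₃ X hS x rfl (Subsingleton.elim _ _)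
    rw [← hy, Subsingleton.elim y 0, Ext.zero_comp]

lemma extend_of_subsingleton {S : ShortComplex A} (hS : S.ShortExact) {Y : A}
    (h : Subsingleton (Ext S.X₃ Y 1)) (s : S.X₁ ⟶ Y) : ∃ t : S.X₂ ⟶ Y, S.f ≫ t = s := by
  obtain ⟨x, hx⟩ := Ext.contravariant_sequence_exact₁ hS Y (Ext.mk₀ s) (add_zero 1) (Subsingleton.elim _ _)
  obtain ⟨t, rfl⟩ := Ext.addEquiv₀.symm.surjective x
  exact ⟨t, Ext.addEquiv₀.symm.injective ((Ext.mk₀_comp_mk₀ S.f t).symm.trans hx)⟩

lemma subsingleton_sub_of_ses {S : ShortComplex A} (hS : S.ShortExact) {Y : A} {q : ℕ}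
    (h₂ : Subsingleton (Ext S.X₂ Y q)) (h₃ : Subsingleton (Ext S.X₃ Y (1 + q))) :
    Subsingleton (Ext S.X₁ Y q) :=
  subsingleton_of_forall_eq 0 fun x => by
    obtain ⟨y, hy⟩ := Ext.contravariant_sequence_exact₁ hS Y x rfl (Subsingleton.elim _ _)
    rw [← hy, Subsingleton.elim y 0, Ext.comp_zero]

lemma subsingleton_of_iso {X X' F F' : A} (e : X ≅ X') (e' : F ≅ F') {q : ℕ}
    (h : Subsingleton (Ext X F q)) : Subsingleton (Ext X' F' q) :=
  subsingleton_of_forall_eq 0 fun x => by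
    have h0 : ((Ext.mk₀ e.hom).comp x (zero_add q)).comp (Ext.mk₀ e'.inv) (add_zero q) = 0 :=
      Subsingleton.elim _ _
    have := congrArg (fun y => ((Ext.mk₀ e.inv).comp y (zero_add q)).comp (Ext.mk₀ e'.hom) (add_zero q)) h0
    simpa [Ext.comp_assoc_of_second_deg_zero, Ext.comp_assoc_of_third_deg_zero] using this

/-- an augmented chain complex which is exact everywhere -/
structure IsRes (P : ChainComplex A ℕ) {Z : A} (ε : P.X 0 ⟶ Z) : Prop where
  epi : Epi ε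
  w : P.d 1 0 ≫ ε = 0
  exact₀ : (ShortComplex.mk (P.d 1 0) ε w).Exact
  exact : ∀ n, (ShortComplex.mk (P.d (n + 2) (n + 1)) (P.d (n + 1) n) (P.d_comp_d _ _ _)).Exact

/-- `Hom(-, F)` keeps the complex exact in positive degrees -/
def HomExact (P : ChainComplex A ℕ) (F : A) : Prop :=
  ∀ (n : ℕ) (φ : P.X (n + 1) ⟶ F), P.d (n + 2) (n + 1) ≫ φ = 0 → ∃ ψ : P.X n ⟶ F, P.d (n + 1) n ≫ ψ = φ

lemma IsRes.desc {P : ChainComplex A ℕ} {Z : A} {ε : P.X 0 ⟶ Z} (h : IsRes P ε) {F : A} (φ : P.X 0 ⟶ F)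
    (hφ : P.d 1 0 ≫ φ = 0) : ∃ ψ : Z ⟶ F, ε ≫ ψ = φ :=
  haveI := h.epi
  ⟨h.exact₀.desc φ hφ, h.exact₀.g_desc φ hφ⟩

lemma IsRes.shortExact₀ {P : ChainComplex A ℕ} {Z : A} {ε : P.X 0 ⟶ Z} (h : IsRes P ε) :
    ∃ (i : cokernel (P.d 2 1) ⟶ P.X 0) (w : i ≫ ε = 0),
      cokernel.π (P.d 2 1) ≫ i = P.d 1 0 ∧ (ShortComplex.mk i ε w).ShortExact := by
  haveI := h.epi
  have hw : cokernel.desc (P.d 2 1) (P.d 1 0) (P.d_comp_d _ _ _) ≫ ε = 0 := by
    rw [← cancel_epi (cokernel.π (P.d 2 1)), cokernel.π_desc_assoc, h.w, comp_zero]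
  refine ⟨_, hw, cokernel.π_desc _ _ _, ?_⟩
  haveI := (ShortComplex.exact_iff_mono_cokernel_desc _).1 (h.exact 0)
  refine { exact := ?_, mono_f := this, epi_g := h.epi }
  refine (ShortComplex.exact_iff_of_epi_of_isIso_of_mono
    ({ τ₁ := cokernel.π (P.d 2 1), τ₂ := 𝟙 _, τ₃ := 𝟙 _
       comm₁₂ := by simp } : ShortComplex.mk (P.d 1 0) ε h.w ⟶
        ShortComplex.mk (cokernel.desc (P.d 2 1) (P.d 1 0) (P.d_comp_d _ _ _)) ε hw)).1 h.exact₀

/-- the shifted resolution -/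
lemma IsRes.shortExact {P : ChainComplex A ℕ} {Z : A} {ε : P.X 0 ⟶ Z} (h : IsRes P ε) (n : ℕ) :
    ∃ (i : cokernel (P.d (n + 3) (n + 2)) ⟶ P.X (n + 1)) (w : i ≫ cokernel.π (P.d (n + 2) (n + 1)) = 0),
      cokernel.π (P.d (n + 3) (n + 2)) ≫ i = P.d (n + 2) (n + 1) ∧
        (ShortComplex.mk i (cokernel.π (P.d (n + 2) (n + 1))) w).ShortExact := by
  have hw : cokernel.desc (P.d (n + 3) (n + 2)) (P.d (n + 2) (n + 1)) (P.d_comp_d _ _ _) ≫
      cokernel.π (P.d (n + 2) (n + 1)) = 0 := by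
    rw [← cancel_epi (cokernel.π (P.d (n + 3) (n + 2))), cokernel.π_desc_assoc, cokernel.condition, comp_zero]
  refine ⟨_, hw, cokernel.π_desc _ _ _, ?_⟩
  haveI := (ShortComplex.exact_iff_mono_cokernel_desc _).1 (h.exact (n + 1))
  refine { exact := ?_, mono_f := this }
  exact (ShortComplex.exact_iff_of_epi_of_isIso_of_mono
    ({ τ₁ := cokernel.π (P.d (n + 3) (n + 2)), τ₂ := 𝟙 _, τ₃ := 𝟙 _
       comm₁₂ := by simp } :
      ShortComplex.mk (P.d (n + 2) (n + 1)) (cokernel.π _) (cokernel.condition _) ⟶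
        ShortComplex.mk (cokernel.desc (P.d (n + 3) (n + 2)) (P.d (n + 2) (n + 1)) (P.d_comp_d _ _ _))
          (cokernel.π (P.d (n + 2) (n + 1))) hw)).1 (ShortComplex.exact_cokernel _)

/-- Acyclic objects compute `Hom(-, F)`-exactness. -/
theorem homExact_of_acyclic {P : ChainComplex A ℕ} {Z : A} {ε : P.X 0 ⟶ Z} (h : IsRes P ε) {F : A}
    (hZ : ∀ q, Subsingleton (Ext Z F (q + 1))) (hP : ∀ n q, Subsingleton (Ext (P.X n) F (q + 1))) :
    HomExact P F := by
  have hc : ∀ n q, Subsingleton (Ext (cokernel (P.d (n + 2) (n + 1))) F (q + 1)) := by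
    intro n
    induction n with
    | zero =>
      obtain ⟨i, w, -, hS⟩ := h.shortExact₀
      exact fun q => subsingleton_sub_of_ses hS (hP 0 q) (by rw [Nat.add_comm 1]; exact hZ (q + 1))
    | succ n ih =>
      obtain ⟨i, w, -, hS⟩ := h.shortExact n
      exact fun q => subsingleton_sub_of_ses hS (hP (n + 1) q) (by rw [Nat.add_comm 1]; exact ih (q + 1))
  rintro (_ | n) φ hφ
  · obtain ⟨i, w, hi, hS⟩ := h.shortExact₀
    obtain ⟨t, ht⟩ := extend_of_subsingleton hS (hZ 0) (cokernel.desc _ φ hφ)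
    replace ht : i ≫ t = cokernel.desc _ φ hφ := ht
    exact ⟨t, by rw [← hi, Category.assoc, ht, cokernel.π_desc]⟩
  · obtain ⟨i, w, hi, hS⟩ := h.shortExact n
    obtain ⟨t, ht⟩ := extend_of_subsingleton hS (hc n 0) (cokernel.desc _ φ hφ)
    replace ht : i ≫ t = cokernel.desc _ φ hφ := ht
    exact ⟨t, by rw [← hi, Category.assoc, ht, cokernel.π_desc]⟩

/-- An exact augmented complex with injective coefficient. -/
theorem homExact_of_injective {P : ChainComplex A ℕ} {Z : A} {ε : P.X 0 ⟶ Z} (h : IsRes P ε) (I : A)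
    [Injective I] : HomExact P I :=
  homExact_of_acyclic h (fun q => Ext.subsingleton_of_injective _ _ q)
    (fun _ q => Ext.subsingleton_of_injective _ _ q)

section Criterion

variable [EnoughInjectives A] {T : Type*} (Z : T → A)
  (Good : ∀ (k : T) (P : ChainComplex A ℕ), (P.X 0 ⟶ Z k) → Prop)

/-- The Čech criterion: if objects `Z k` have enough resolutions by objects of the family to kill all
lifting problems, and `Hom(-, F)` keeps them exact, then all higher `Ext(Z k, F)` vanish. -/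
theorem subsingleton_of_homExact
    (lift : ∀ {I Q : A} (g : I ⟶ Q) [Epi g] (k : T) (s : Z k ⟶ Q),
      ∃ (P : ChainComplex A ℕ) (ε : P.X 0 ⟶ Z k), Good k P ε ∧ ∃ t : P.X 0 ⟶ I, t ≫ g = ε ≫ s)
    (hres : ∀ {k P ε}, Good k P ε → IsRes P ε)
    (hterm : ∀ {k P ε}, Good k P ε → ∀ n, ∃ j, Nonempty (P.X n ≅ Z j))
    (q : ℕ) : ∀ (F : A),
      (∀ (k : T) (P : ChainComplex A ℕ) (ε : P.X 0 ⟶ Z k), Good k P ε → HomExact P F) → ∀ k, Subsingleton (Ext (Z k) F (q + 1)) := by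
  intro F
  induction q using Nat.strong_induction_on generalizing F with
  | _ q ih =>
  intro hF
  let S := ShortComplex.mk (Injective.ι F) (cokernel.π _) (cokernel.condition _)
  have hS : S.ShortExact := { exact := ShortComplex.exact_cokernel _ }
  have h1 : ∀ k, Subsingleton (Ext (Z k) F 1) := fun k => by
    refine subsingleton_one_of_lift hS (Ext.subsingleton_of_injective _ _ 0) fun s => ?_
    obtain ⟨P, ε, hG, t, ht⟩ := lift S.g k s
    have hP := hres hG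
    replace ht : t ≫ S.g = ε ≫ s := ht
    obtain ⟨a, ha⟩ : ∃ a, a ≫ S.f = P.d 1 0 ≫ t :=
      ⟨_, hS.fIsKernel.fac (KernelFork.ofι (P.d 1 0 ≫ t) (by
        rw [Category.assoc, ht, reassoc_of% hP.w, zero_comp])) WalkingParallelPair.zero⟩
    haveI := hS.mono_f
    obtain ⟨b, hb⟩ := hF k P ε hG 0 a (by rw [← cancel_mono S.f, Category.assoc, ha, P.d_comp_d_assoc,
      zero_comp, zero_comp])
    obtain ⟨ψ, hψ⟩ := hP.desc (t - b ≫ S.f) (by
      rw [Preadditive.comp_sub, ← Category.assoc, hb, ha, sub_self])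
    refine ⟨ψ, ?_⟩
    haveI := hP.epi
    rw [← cancel_epi ε, reassoc_of% hψ, Preadditive.sub_comp, Category.assoc, S.zero, comp_zero, sub_zero, ht]
  rcases q with _ | q
  · exact h1
  intro k
  refine subsingleton_succ_of_ses hS (ih q (Nat.lt_succ_self q) S.X₃ (fun j P ε hG n φ hφ => ?_) k)
    (Ext.subsingleton_of_injective _ _ (q + 1))
  have hP := hres hG
  have hPZ := hterm hG
  have hl : ∀ (n : ℕ) (s : P.X n ⟶ S.X₃), ∃ t : P.X n ⟶ S.X₂, t ≫ S.g = s := fun n s => by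
    obtain ⟨i, ⟨e⟩⟩ := hPZ n
    exact lift_of_subsingleton hS (subsingleton_of_iso e.symm (Iso.refl _) (h1 i)) s
  obtain ⟨φ', hφ'⟩ := hl (n + 1) φ
  obtain ⟨a, ha⟩ : ∃ a, a ≫ S.f = P.d (n + 2) (n + 1) ≫ φ' :=
    ⟨_, hS.fIsKernel.fac (KernelFork.ofι (P.d (n + 2) (n + 1) ≫ φ') (by
      rw [Category.assoc, hφ', hφ])) WalkingParallelPair.zero⟩
  haveI := hS.mono_f
  obtain ⟨b, hb⟩ := hF j P ε hG (n + 1) a (by
    rw [← cancel_mono S.f, Category.assoc, ha, P.d_comp_d_assoc, zero_comp, zero_comp])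
  obtain ⟨c, hc⟩ := homExact_of_injective hP S.X₂ n (φ' - b ≫ S.f) (by
    rw [Preadditive.comp_sub, ← Category.assoc, hb, ha, sub_self])
  refine ⟨c ≫ S.g, ?_⟩
  rw [← Category.assoc, hc, Preadditive.sub_comp, Category.assoc, S.zero, comp_zero, sub_zero, hφ']

end Criterion

end Groth.Agent.CohAcyc
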