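import Groth.Agent.CohAcyc.Free
import Mathlib.CategoryTheory.Sites.PreservesSheafification
import Mathlib.CategoryTheory.Sites.Pullback
import Mathlib.CategoryTheory.Limits.Shapes.Pullback.CommSq

/-! # Totally acyclic sheaves: first consequences -/

universe u

open CategoryTheory CategoryTheory.Limits CategoryTheory.Abelian Opposite AlgebraicTopology
open scoped Simplicial

namespace Groth.Agent.CohAcyc

variable {C : Type u} [SmallCategory C] {J : GrothendieckTopology C}

instance preservesSheafification_free : J.PreservesSheafification AddCommGrpCat.free.{u} :=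
  Sheaf.preservesSheafification_of_adjunction J AddCommGrpCat.adj

/-- sheafified representable -/
noncomputable abbrev yonSh (J : GrothendieckTopology C) (U : C) : Sheaf J (Type u) :=
  (presheafToSheaf J (Type u)).obj (yoneda.obj U)

/-- `Z[h_U]` as a free sheaf on a sheaf of sets -/
noncomputable def freeSheafIso (U : C) : CohCx.freeSheaf J U ≅ (zF J).obj (yonSh J U) :=
  @asIso _ _ _ _ (((Functor.whiskeringRight Cᵒᵖ (Type u) AddCommGrpCat.{u}).obj AddCommGrpCat.free ⋙
      presheafToSheaf J AddCommGrpCat.{u}).map (toSheafify J (yoneda.obj U)))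
    (J.W_isInvertedBy_whiskeringRight_presheafToSheaf AddCommGrpCat.free.{u} _ (J.W_toSheafify _))

theorem subsingleton_HU_iff (F : Ab J) (n : ℕ) (U : C) :
    Subsingleton (CohSite.HU F n U) ↔ Subsingleton (Ext ((zF J).obj (yonSh J U)) F n) :=
  ⟨fun h => subsingleton_of_iso (freeSheafIso U) (Iso.refl F) h,
    fun h => subsingleton_of_iso (freeSheafIso U).symm (Iso.refl F) h⟩

theorem subsingleton_HU {F : Ab J} (hF : CohCx.IsTotallyAcyclic F) (U : C) (p : ℕ) :
    Subsingleton (CohSite.HU F (p + 1) U) :=
  (subsingleton_HU_iff F (p + 1) U).2 (hF _ p)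

theorem isTotallyAcyclic_of_injective (I : Ab J) [Injective I] : CohCx.IsTotallyAcyclic I :=
  fun _ p => Ext.subsingleton_of_injective _ _ p

instance mono_free_map {X Y : Type u} (f : X ⟶ Y) [Mono f] : Mono (AddCommGrpCat.free.map f) := by
  rcases isEmpty_or_nonempty X with h | h
  · haveI : Subsingleton (FreeAbelianGroup X) := inferInstance
    exact (AddCommGrpCat.mono_iff_injective _).2 fun a b _ => this.elim a b
  · obtain ⟨g, hg⟩ := ((mono_iff_injective f).1 inferInstance).hasLeftInverse
    haveI : IsSplitMono f := ⟨⟨⟨↾g, by ext x; exact hg x⟩⟩⟩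
    infer_instance

instance zF_preservesMono {Y X : Sheaf J (Type u)} (ι : Y ⟶ X) [Mono ι] : Mono ((zF J).map ι) := by
  haveI : Mono ι.hom := inferInstanceAs (Mono ((sheafToPresheaf J (Type u)).map ι))
  haveI : ∀ U, Mono ((Functor.whiskerRight ι.hom AddCommGrpCat.free.{u}).app U) := fun U =>
    inferInstanceAs (Mono (AddCommGrpCat.free.map (ι.hom.app U)))
  haveI : Mono (Functor.whiskerRight ι.hom AddCommGrpCat.free.{u}) := NatTrans.mono_of_mono_app _
  exact inferInstanceAs (Mono ((presheafToSheaf J AddCommGrpCat.{u}).map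
    (Functor.whiskerRight ι.hom AddCommGrpCat.free.{u})))

lemma subsingleton_of_retract {A : Type*} [Category* A] [Abelian A] [HasExt.{u} A] {X Y F : A}
    (i : X ⟶ Y) (p : Y ⟶ X) (h : i ≫ p = 𝟙 X) {q : ℕ} (hY : Subsingleton (Ext Y F q)) :
    Subsingleton (Ext X F q) :=
  subsingleton_of_forall_eq 0 fun x => by
    have := congrArg (fun y => (Ext.mk₀ i).comp y (zero_add q))
      (Subsingleton.elim ((Ext.mk₀ p).comp x (zero_add q)) 0)
    simpa [Ext.mk₀_comp_mk₀_assoc, h] using this

/-- Restriction along a monomorphism is surjective for totally acyclic sheaves. -/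
theorem exists_extension {F : Ab J} (hF : CohCx.IsTotallyAcyclic F) {Y X : Sheaf J (Type u)} (ι : Y ⟶ X)
    [Mono ι] (s : (zF J).obj Y ⟶ F) : ∃ t : (zF J).obj X ⟶ F, (zF J).map ι ≫ t = s := by
  let T := ⊤_ Sheaf J (Type u)
  let P := pushout ι (terminal.from Y)
  have hP : IsPushout ((zF J).map ι) ((zF J).map (terminal.from Y))
      ((zF J).map (pushout.inl ι (terminal.from Y))) ((zF J).map (pushout.inr ι (terminal.from Y))) :=
    haveI : PreservesColimitsOfSize.{0, 0} (zF J) := (zAdj J).leftAdjoint_preservesColimits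
    (IsPushout.of_hasPushout ι (terminal.from Y)).map (zF J)
  let a : cokernel ((zF J).map ι) ⟶ (zF J).obj P :=
    cokernel.desc _ ((zF J).map (pushout.inl ι (terminal.from Y)) -
      (zF J).map (terminal.from X ≫ pushout.inr ι (terminal.from Y))) (by
        rw [Preadditive.comp_sub, ← Functor.map_comp, ← Functor.map_comp, pushout.condition,
          ← Category.assoc, show ι ≫ terminal.from X = terminal.from Y from terminal.hom_ext _ _, sub_self])
  let b : (zF J).obj P ⟶ cokernel ((zF J).map ι) := hP.desc (cokernel.π _) 0 (by simp)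
  have hab : a ≫ b = 𝟙 _ := by
    rw [← cancel_epi (cokernel.π ((zF J).map ι))]
    simp [a, b, Functor.map_comp, Preadditive.sub_comp, IsPushout.inl_desc, IsPushout.inr_desc]
  exact extend_of_subsingleton
    (S := ShortComplex.mk ((zF J).map ι) (cokernel.π _) (cokernel.condition _))
    { exact := ShortComplex.exact_cokernel _ } (subsingleton_of_retract a b hab (hF P 0)) s

section Push

variable {D : Type u} [SmallCategory D] {K : GrothendieckTopology D} (u : D ⥤ C) [u.IsContinuous K J]

/-- `Z[u⁻¹ K] ≅ u⁻¹ Z[K]` -/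
noncomputable def pullZIso :
    zF K ⋙ u.sheafPullback AddCommGrpCat.{u} K J ≅ u.sheafPullback (Type u) K J ⋙ zF J :=
  ((zAdj K).comp (u.sheafAdjunctionContinuous AddCommGrpCat.{u} K J)).leftAdjointUniq
    (((u.sheafAdjunctionContinuous (Type u) K J).comp (zAdj J)).ofNatIsoRight (Iso.refl _))

section Nerve

variable {A B : Type*} [Category* A] [Category* B] (G : A ⥤ B) [HasFiniteLimits A]
    [HasFiniteLimits B] [PreservesFiniteLimits G] {X Y : A} (f : X ⟶ Y) (ι : Type) [Finite ι]

/-- comparison for wide pullbacks of copies of `f` -/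
noncomputable def wpMapHom : G.obj (widePullback Y (fun _ : ι => X) fun _ => f) ⟶
    widePullback (G.obj Y) (fun _ : ι => G.obj X) fun _ => G.map f :=
  WidePullback.lift (G.map (WidePullback.base _)) (fun i => G.map (WidePullback.π _ i))
    (fun i => (G.map_comp _ _).symm.trans (congrArg G.map (WidePullback.π_arrow _ i)))

lemma wpMapHom_π (i : ι) : wpMapHom G f ι ≫ WidePullback.π _ i = G.map (WidePullback.π _ i) :=
  WidePullback.lift_π _ _ _ _ i

lemma wpMapHom_base : wpMapHom G f ι ≫ WidePullback.base _ = G.map (WidePullback.base _) :=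
  WidePullback.lift_base _ _ _ _

instance isIso_wpMapHom : IsIso (wpMapHom G f ι) := by
  let D := WidePullbackShape.wideCospan Y (fun _ : ι => X) fun _ => f
  haveI : PreservesLimitsOfShape (WidePullbackShape ι) G :=
    haveI := Fintype.ofFinite ι
    PreservesFiniteLimits.preservesFiniteLimits _
  let hl := isLimitOfPreserves G (limit.isLimit D)
  let c : Cone (D ⋙ G) :=
    { pt := widePullback (G.obj Y) (fun _ : ι => G.obj X) fun _ => G.map f
      π :=
        { app := fun j => match j with
            | none => WidePullback.base _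
            | some i => WidePullback.π _ i
          naturality := by
            rintro j j' (_ | i)
            · simp
            · exact (Category.id_comp _).trans (WidePullback.π_arrow _ i).symm } }
  refine ⟨hl.lift c, hl.hom_ext fun j => ?_, WidePullback.hom_ext _ _ _ (fun i => ?_) ?_⟩
  · rw [Category.assoc, hl.fac]
    cases j with
    | none => exact (wpMapHom_base G f ι).trans (Category.id_comp _).symm
    | some i => exact (wpMapHom_π G f ι i).trans (Category.id_comp _).symm
  · rw [Category.assoc, wpMapHom_π, Category.id_comp]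
    exact hl.fac c (some i : WidePullbackShape ι)
  · rw [Category.assoc, wpMapHom_base, Category.id_comp]
    exact hl.fac c (none : WidePullbackShape ι)

/-- a functor preserving wide pullbacks commutes with Čech nerves -/
noncomputable def nerveMapIso : (Arrow.mk f).cechNerve ⋙ G ≅ (Arrow.mk (G.map f)).cechNerve :=
  NatIso.ofComponents (fun m => asIso (wpMapHom G f (Fin (m.unop.len + 1))))
    (fun {m m'} g => by
      refine WidePullback.hom_ext _ _ _ (fun i => ?_) ?_
      · refine (Category.assoc _ _ _).trans ((congrArg (_ ≫ ·) (wpMapHom_π G f _ i)).trans ?_)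
        refine ((G.map_comp _ _).symm.trans (congrArg G.map (WidePullback.lift_π _ _ _ _ i))).trans ?_
        refine (wpMapHom_π G f _ _).symm.trans ?_
        refine Eq.trans ?_ (Category.assoc _ _ _).symm
        refine congrArg (_ ≫ ·) (Eq.symm ?_)
        exact WidePullback.lift_π (arrows := fun _ : Fin (m'.unop.len + 1) => G.map f) _ _ _ i
      · refine (Category.assoc _ _ _).trans ((congrArg (_ ≫ ·) (wpMapHom_base G f _)).trans ?_)
        refine ((G.map_comp _ _).symm.trans (congrArg G.map (WidePullback.lift_base _ _ _ _))).trans ?_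
        refine (wpMapHom_base G f _).symm.trans ?_
        refine Eq.trans ?_ (Category.assoc _ _ _).symm
        exact congrArg (_ ≫ ·) (WidePullback.lift_base _ _ _ _).symm)

end Nerve

variable [PreservesFiniteLimits (u.sheafPullback (Type u) K J)]

/-- `u⁻¹` of a free Čech complex -/
noncomputable def pullCechIso {X Y : Sheaf K (Type u)} (f : X ⟶ Y) :
    (haveI : (u.sheafPullback AddCommGrpCat.{u} K J).Additive :=
      (u.sheafAdjunctionContinuous AddCommGrpCat.{u} K J).left_adjoint_additive
    ((u.sheafPullback AddCommGrpCat.{u} K J).mapHomologicalComplex (ComplexShape.down ℕ)).obj (zCech f)) ≅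
      zCech ((u.sheafPullback (Type u) K J).map f) :=
  haveI : (u.sheafPullback AddCommGrpCat.{u} K J).Additive :=
    (u.sheafAdjunctionContinuous AddCommGrpCat.{u} K J).left_adjoint_additive
  eqToIso (Functor.congr_obj (map_alternatingFaceMapComplex (u.sheafPullback AddCommGrpCat.{u} K J)) (zAug f).left) ≪≫
    (alternatingFaceMapComplex _).mapIso
      (Functor.associator _ _ _ ≪≫ Functor.isoWhiskerLeft _ (pullZIso u) ≪≫ (Functor.associator _ _ _).symm ≪≫
        Functor.isoWhiskerRight (nerveMapIso (u.sheafPullback (Type u) K J) f) (zF J))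

lemma homExact_of_iso {A : Type*} [Category* A] [Abelian A] {P Q : ChainComplex A ℕ} (e : P ≅ Q) {F : A}
    (h : HomExact Q F) : HomExact P F := fun n φ hφ => by
  obtain ⟨ψ, hψ⟩ := h n (e.inv.f (n + 1) ≫ φ) (by
    rw [← Category.assoc, ← e.inv.comm, Category.assoc, hφ, comp_zero])
  refine ⟨e.hom.f n ≫ ψ, ?_⟩
  rw [← Category.assoc, ← e.hom.comm, Category.assoc, hψ, ← Category.assoc, ← HomologicalComplex.comp_f,
    e.hom_inv_id, HomologicalComplex.id_f, Category.id_comp]

lemma homExact_of_adjunction {A B : Type*} [Category* A] [Category* B] [Abelian A] [Abelian B]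
    {L : A ⥤ B} {R : B ⥤ A} (adj : L ⊣ R) [L.Additive] {P : ChainComplex A ℕ} {F : B}
    (h : HomExact ((L.mapHomologicalComplex (ComplexShape.down ℕ)).obj P) F) : HomExact P (R.obj F) :=
  fun n φ hφ => by
    obtain ⟨ψ, hψ⟩ := h n ((adj.homEquiv _ _).symm φ) (by
      show L.map _ ≫ _ = 0
      rw [← Adjunction.homEquiv_naturality_left_symm, hφ, Adjunction.homEquiv_counit, L.map_zero, zero_comp])
    refine ⟨adj.homEquiv _ _ ψ, ?_⟩
    rw [← Adjunction.homEquiv_naturality_left]
    exact (congrArg (adj.homEquiv _ _) hψ).trans ((adj.homEquiv _ _).apply_symm_apply φ)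

/-- Direct images of totally acyclic sheaves are totally acyclic. -/
theorem isTotallyAcyclic_push {F : Ab J} (hF : CohCx.IsTotallyAcyclic F) :
    CohCx.IsTotallyAcyclic ((CohSite.push J K u).obj F) := by
  haveI : (u.sheafPullback AddCommGrpCat.{u} K J).Additive :=
    (u.sheafAdjunctionContinuous AddCommGrpCat.{u} K J).left_adjoint_additive
  haveI : (u.sheafPullback (Type u) K J).IsLeftAdjoint :=
    ⟨_, ⟨u.sheafAdjunctionContinuous (Type u) K J⟩⟩
  exact isTotallyAcyclic_of_cech _ fun k' k f _ =>
    homExact_of_adjunction (u.sheafAdjunctionContinuous AddCommGrpCat.{u} K J)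
      (homExact_of_iso (pullCechIso u f) (homExact_of_isTotallyAcyclic hF _))

end Push

end Groth.Agent.CohAcyc
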