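import Groth.Agent.CohAcyc.Abstract
import Groth.Agent.S6161
import Groth.Agent.SiteBase.SetExact
import Groth.Prelude.Def_CohCx
import Mathlib.CategoryTheory.Preadditive.Projective.Resolution

/-! # Free abelian sheaves and Čech nerves: total acyclicity criteria -/

universe u

open CategoryTheory CategoryTheory.Limits CategoryTheory.Abelian Opposite AlgebraicTopology
open scoped Simplicial

namespace Groth.Agent.CohAcyc

lemma isRes_of_quasiIso {A : Type*} [Category* A] [Abelian A] {P : ChainComplex A ℕ} {Z : A}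
    (π : P ⟶ (ChainComplex.single₀ A).obj Z) [QuasiIso π] : IsRes P (π.f 0) := by
  have hc : IsColimit (CokernelCofork.ofπ (f := P.d 1 0) (π.f 0) (by
      rw [← π.comm 1 0, HomologicalComplex.single_obj_d, comp_zero])) := by
    refine IsColimit.ofIsoColimit (P.opcyclesIsCokernel 1 0 (by simp)) ?_
    refine Cofork.ext (P.isoHomologyι₀.symm ≪≫ isoOfQuasiIsoAt π 0 ≪≫
      HomologicalComplex.singleObjHomologySelfIso _ _ _) ?_
    rw [← cancel_mono (HomologicalComplex.singleObjHomologySelfIso (ComplexShape.down ℕ) 0 _).inv,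
      ← cancel_mono (ChainComplex.isoHomologyι₀ _).hom]
    dsimp
    simp [HomologicalComplex.singleObjOpcyclesSelfIso_hom, HomologicalComplex.singleObjXSelf]
    rw [show (HomologicalComplex.singleObjXIsoOfEq (ComplexShape.down ℕ) 0 Z 0 rfl).inv = 𝟙 _ from rfl,
      Category.id_comp]
  refine ⟨epi_of_isColimit_cofork hc, by rw [← π.comm 1 0, HomologicalComplex.single_obj_d, comp_zero],
    ShortComplex.exact_of_g_is_cokernel _ hc, fun n => ?_⟩
  have h : P.ExactAt (n + 1) := by
    rw [exactAt_iff_of_quasiIsoAt π]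
    exact ChainComplex.exactAt_succ_single_obj _ _
  exact (P.exactAt_iff' (n + 2) (n + 1) n (by simp) (by simp)).1 h

variable {C : Type u} [SmallCategory C] {J : GrothendieckTopology C}

/-- abelian sheaves -/
abbrev Ab (J : GrothendieckTopology C) := Sheaf J AddCommGrpCat.{u}

/-- free abelian sheaf on a sheaf of sets -/
noncomputable abbrev zF (J : GrothendieckTopology C) : Sheaf J (Type u) ⥤ Ab J :=
  Sheaf.composeAndSheafify J AddCommGrpCat.free.{u}

/-- its adjunction -/
noncomputable abbrev zAdj (J : GrothendieckTopology C) :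
    zF J ⊣ sheafCompose J (CategoryTheory.forget AddCommGrpCat.{u}) :=
  Sheaf.adjunction J AddCommGrpCat.adj

variable {K' K : Sheaf J (Type u)}

/-- augmented free Čech nerve -/
noncomputable abbrev zAug (f : K' ⟶ K) : SimplicialObject.Augmented (Ab J) :=
  ((SimplicialObject.Augmented.whiskering _ _).obj (zF J)).obj (Arrow.mk f).augmentedCechNerve

/-- free Čech complex -/
noncomputable abbrev zCech (f : K' ⟶ K) : ChainComplex (Ab J) ℕ :=
  AlternatingFaceMapComplex.obj (zAug f).left

/-- its augmentation -/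
noncomputable abbrev zCechε (f : K' ⟶ K) : (zCech f).X 0 ⟶ (zF J).obj K :=
  (zAug f).hom.app (op ⦋0⦌)

theorem isRes_zCech (f : K' ⟶ K) [Epi f] : IsRes (zCech f) (zCechε f) := by
  have h := @isRes_of_quasiIso _ _ _ (zCech f) ((zF J).obj K) (AlternatingFaceMapComplex.ε.app (zAug f))
    (Groth.Agent.S6161.result J f)
  have e : (AlternatingFaceMapComplex.ε.app (zAug f)).f 0 = zCechε f :=
    AlternatingFaceMapComplex.ε_app_f_zero (zAug f)
  rw [← e]
  exact h

lemma cechNerveCx_d (F : Ab J) (f : K' ⟶ K) (n : ℕ) (x : (CohCx.cechNerveCx F f).X n) :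
    (CohCx.cechNerveCx F f).d n (n + 1) x =
      (zCech f).d (n + 1) n ≫ (show (zCech f).X n ⟶ F from x) := by
  show ((AlternatingCofaceMapComplex.obj ((Arrow.mk f).cechNerve.rightOp ⋙ CohCx.HK0Functor J F)).d n (n + 1)) x = _
  simp only [AlternatingCofaceMapComplex.obj, CochainComplex.of_d, AlternatingCofaceMapComplex.objD,
    AlternatingFaceMapComplex.obj, ChainComplex.of_d, AlternatingFaceMapComplex.objD,
    Preadditive.sum_comp, Preadditive.zsmul_comp]
  exact map_sum (AddMonoidHom.mk' (fun φ : (CohCx.cechNerveCx F f).X n ⟶ (CohCx.cechNerveCx F f).X (n + 1) =>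
    φ.hom x) (fun _ _ => rfl)) _ _

lemma isZero_homology_iff (F : Ab J) (f : K' ⟶ K) (n : ℕ) :
    IsZero ((CohCx.cechNerveCx F f).homology (n + 1)) ↔
      ∀ φ : (zCech f).X (n + 1) ⟶ F, (zCech f).d (n + 2) (n + 1) ≫ φ = 0 →
        ∃ ψ : (zCech f).X n ⟶ F, (zCech f).d (n + 1) n ≫ ψ = φ := by
  rw [← HomologicalComplex.exactAt_iff_isZero_homology,
    HomologicalComplex.exactAt_iff' _ n (n + 1) (n + 2) (by simp) (by simp), ShortComplex.ab_exact_iff]
  refine forall_congr' fun φ => imp_congr ?_ (exists_congr fun ψ => ?_)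
  · exact Iff.of_eq (congrArg (· = 0) (cechNerveCx_d F f (n + 1) φ))
  · exact Iff.of_eq (congrArg (· = φ) (cechNerveCx_d F f n ψ))

theorem homExact_iff (F : Ab J) (f : K' ⟶ K) :
    HomExact (zCech f) F ↔ ∀ q : ℕ, IsZero ((CohCx.cechNerveCx F f).homology (q + 1)) :=
  forall_congr' fun n => (isZero_homology_iff F f n).symm

/-- the free Čech resolutions of epimorphisms -/
def IsCech (k : Sheaf J (Type u)) (P : ChainComplex (Ab J) ℕ) (ε : P.X 0 ⟶ (zF J).obj k) : Prop :=
  ∃ (k' : Sheaf J (Type u)) (f : k' ⟶ k) (_ : Epi f) (e : P = zCech f),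
    ε = eqToHom (by rw [e]) ≫ zCechε f

lemma isLocallySurjective_forget {I Q : Ab J} (g : I ⟶ Q) [Epi g] :
    Sheaf.IsLocallySurjective ((sheafCompose J (CategoryTheory.forget AddCommGrpCat.{u})).map g) := by
  haveI : Sheaf.IsLocallySurjective g :=
    (Sheaf.isLocallySurjective_iff_epi' (A := AddCommGrpCat.{u}) g).2 inferInstance
  exact (Presheaf.isLocallySurjective_iff_whisker_forget J g.hom).1 ‹_›

/-- a sheaf of sets covering `K` on which a map from `Z[K]` lifts -/
lemma exists_epi_lift {I Q : Ab J} (g : I ⟶ Q) [Epi g] (s : (zF J).obj K ⟶ Q) :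
    ∃ (k' : Sheaf J (Type u)) (f : k' ⟶ K) (_ : Epi f) (t : (zF J).obj k' ⟶ I),
      t ≫ g = (zF J).map f ≫ s := by
  let U := sheafCompose J (CategoryTheory.forget AddCommGrpCat.{u})
  let h := IsPullback.of_hasPullback (U.map g) ((zAdj J).homEquiv _ _ s)
  haveI := isLocallySurjective_forget g
  haveI := Groth.Agent.SiteBase.sheaf_isLocallySurjective_snd_of_isPullback h
  refine ⟨_, pullback.snd (U.map g) ((zAdj J).homEquiv _ _ s),
    (Sheaf.isLocallySurjective_iff_epi _).1 inferInstance,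
    ((zAdj J).homEquiv _ _).symm (pullback.fst _ _), ?_⟩
  apply ((zAdj J).homEquiv _ _).injective
  rw [Adjunction.homEquiv_naturality_right, Equiv.apply_symm_apply, Adjunction.homEquiv_naturality_left]
  exact pullback.condition

theorem subsingleton_ext_of_cech (F : Ab J)
    (h : ∀ (k' k : Sheaf J (Type u)) (f : k' ⟶ k), Epi f → HomExact (zCech f) F)
    (k : Sheaf J (Type u)) (q : ℕ) : Subsingleton (Ext ((zF J).obj k) F (q + 1)) := by
  refine subsingleton_of_homExact (fun k => (zF J).obj k) IsCech ?_ ?_ ?_ q F ?_ k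
  · intro I Q g _ k s
    obtain ⟨k', f, hf, t, ht⟩ := exists_epi_lift g s
    refine ⟨zCech f, zCechε f, ⟨k', f, hf, rfl, (Category.id_comp _).symm⟩,
      (zF J).map (WidePullback.π (fun _ : Fin 1 => f) 0) ≫ t, ?_⟩
    refine (Category.assoc _ _ _).trans ((congrArg ((zF J).map (WidePullback.π (fun _ : Fin 1 => f) 0) ≫ ·)
      ht).trans ((Category.assoc _ _ _).symm.trans (congrArg (· ≫ s) ?_)))
    exact ((zF J).map_comp _ _).symm.trans (congrArg (zF J).map (WidePullback.π_arrow _ 0))
  · rintro k P ε ⟨k', f, hf, rfl, rfl⟩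
    haveI := hf
    simpa using isRes_zCech f
  · rintro k P ε ⟨k', f, hf, rfl, rfl⟩ n
    exact ⟨(Arrow.mk f).cechNerve.obj (op ⦋n⦌), ⟨Iso.refl _⟩⟩
  · rintro k P ε ⟨k', f, hf, rfl, -⟩
    exact h k' k f hf

/-- Čech criterion for total acyclicity. -/
theorem isTotallyAcyclic_of_cech (F : Ab J)
    (h : ∀ (k' k : Sheaf J (Type u)) (f : k' ⟶ k), Epi f → HomExact (zCech f) F) :
    CohCx.IsTotallyAcyclic F := fun k q => subsingleton_ext_of_cech F h k q

/-- Totally acyclic sheaves have exact Čech complexes. -/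
theorem homExact_of_isTotallyAcyclic {F : Ab J} (hF : CohCx.IsTotallyAcyclic F) (f : K' ⟶ K) [Epi f] :
    HomExact (zCech f) F :=
  homExact_of_acyclic (isRes_zCech f) (fun q => hF K q)
    (fun n q => hF ((Arrow.mk f).cechNerve.obj (op ⦋n⦌)) q)

end Groth.Agent.CohAcyc
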