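import Groth.Agent.CohAcyc.Abstract
import Mathlib.GroupTheory.QuotientGroup.Basic
import Mathlib.CategoryTheory.Adjunction.Additive

/-! # Comparing Ext groups along an exact functor by dimension shifting -/

universe w u₁ v₁ u₂ v₂

open CategoryTheory CategoryTheory.Limits CategoryTheory.Abelian

namespace Groth.Agent.CohAcyc

/-- two surjections with the same kernel have isomorphic targets -/
noncomputable def addEquivOfKerEq {H A B : Type*} [AddCommGroup H] [AddCommGroup A] [AddCommGroup B]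
    (a : H →+ A) (b : H →+ B) (ha : Function.Surjective a) (hb : Function.Surjective b)
    (h : ∀ x, a x = 0 ↔ b x = 0) : A ≃+ B :=
  (QuotientAddGroup.quotientKerEquivOfSurjective a ha).symm.trans
    ((QuotientAddGroup.quotientAddEquivOfEq (AddSubgroup.ext h)).trans
      (QuotientAddGroup.quotientKerEquivOfSurjective b hb))

/-- natural bijections of hom-sets give isomorphisms -/
noncomputable def isoOfHomEquiv {A : Type u₁} [Category.{v₁} A] {X X' : A} (e : ∀ M, (X ⟶ M) ≃ (X' ⟶ M))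
    (he : ∀ {M N} (g : M ⟶ N) (φ : X ⟶ M), e N (φ ≫ g) = e M φ ≫ g) : X' ≅ X where
  hom := e X (𝟙 X)
  inv := (e X').symm (𝟙 X')
  hom_inv_id := by rw [← he, Category.id_comp, Equiv.apply_symm_apply]
  inv_hom_id := (e X).injective (by rw [he, Equiv.apply_symm_apply, Category.id_comp])

variable {A : Type u₁} [Category.{v₁} A] [Abelian A] [HasExt.{w} A] [EnoughInjectives A]
  {B : Type u₂} [Category.{v₂} B] [Abelian B] [HasExt.{w} B]
  (U : A ⥤ B) [U.Additive] [PreservesFiniteLimits U] [PreservesFiniteColimits U]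
  {X : A} {Y : B} (e : ∀ M, (Y ⟶ U.obj M) ≃+ (X ⟶ M))

include e in
/-- If `Y` corepresents `Hom(X, -)` through the exact functor `U` and `U` sends injectives to
`Hom(Y, -)`-acyclic objects, then `Ext(X, M) ≅ Ext(Y, U M)`. -/
theorem nonempty_ext_equiv
    (he : ∀ {M N} (g : M ⟶ N) (φ : Y ⟶ U.obj M), e N (φ ≫ U.map g) = e M φ ≫ g)
    (hI : ∀ (I : A) [Injective I] (q : ℕ), Subsingleton (Ext Y (U.obj I) (q + 1)))
    (p : ℕ) : ∀ M : A, Nonempty (Ext X M p ≃+ Ext Y (U.obj M) p) := by
  induction p with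
  | zero => exact fun M => ⟨Ext.addEquiv₀.trans ((e M).symm.trans Ext.addEquiv₀.symm)⟩
  | succ p ih =>
    intro M
    let S := ShortComplex.mk (Injective.ι M) (cokernel.π _) (cokernel.condition _)
    have hS : S.ShortExact := { exact := ShortComplex.exact_cokernel _ }
    have hT : (S.map U).ShortExact := hS.map_of_exact U
    haveI : Injective S.X₂ := inferInstanceAs (Injective (Injective.under M))
    have hT₂ : ∀ q, Subsingleton (Ext Y (S.map U).X₂ (q + 1)) := hI S.X₂
    let a : Ext X S.X₃ p →+ Ext X S.X₁ (p + 1) := hS.extClass.postcomp X rfl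
    let b : Ext Y (S.map U).X₃ p →+ Ext Y (S.map U).X₁ (p + 1) := hT.extClass.postcomp Y rfl
    have ha : Function.Surjective a := fun x =>
      Ext.covariant_sequence_exact₁ X hS x (Subsingleton.elim
        (h := Ext.subsingleton_of_injective _ _ p) _ _) rfl
    have hb : Function.Surjective b := fun x =>
      Ext.covariant_sequence_exact₁ Y hT x (Subsingleton.elim (h := hT₂ p) _ _) rfl
    cases p with
    | succ p =>
      have ha' : Function.Injective a := (injective_iff_map_eq_zero a).2 fun x hx => by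
        obtain ⟨y, hy⟩ := Ext.covariant_sequence_exact₃ X hS x rfl hx
        rw [← hy, Subsingleton.elim (h := Ext.subsingleton_of_injective _ _ p) y 0, Ext.zero_comp]
      have hb' : Function.Injective b := (injective_iff_map_eq_zero b).2 fun x hx => by
        obtain ⟨y, hy⟩ := Ext.covariant_sequence_exact₃ Y hT x rfl hx
        rw [← hy, Subsingleton.elim (h := hT₂ p) y 0, Ext.zero_comp]
      exact ⟨(AddEquiv.ofBijective a ⟨ha', ha⟩).symm.trans ((ih S.X₃).some.trans
        (AddEquiv.ofBijective b ⟨hb', hb⟩))⟩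
    | zero =>
      let E : Ext Y (S.map U).X₃ 0 ≃+ Ext X S.X₃ 0 :=
        Ext.addEquiv₀.trans ((e S.X₃).trans Ext.addEquiv₀.symm)
      refine ⟨addEquivOfKerEq (a.comp E.toAddMonoidHom) b (ha.comp E.surjective) hb fun x => ?_⟩
      obtain ⟨φ, rfl⟩ : ∃ φ, Ext.mk₀ φ = x := ⟨_, Ext.mk₀_homEquiv₀_apply x⟩
      show a (E (Ext.mk₀ φ)) = 0 ↔ b (Ext.mk₀ φ) = 0
      have hE : E (Ext.mk₀ φ) = Ext.mk₀ (e S.X₃ φ) := by
        have : Ext.addEquiv₀ (Ext.mk₀ φ) = φ := Ext.homEquiv₀.apply_symm_apply φ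
        simp only [E, AddEquiv.trans_apply, this]
        rfl
      rw [hE]
      refine ⟨fun hx => ?_, fun hx => ?_⟩
      · obtain ⟨y, hy⟩ := Ext.covariant_sequence_exact₃ X hS _ rfl hx
        obtain ⟨t, rfl⟩ : ∃ t, Ext.mk₀ t = y := ⟨_, Ext.mk₀_homEquiv₀_apply y⟩
        rw [Ext.mk₀_comp_mk₀] at hy
        have hφ : φ = (e S.X₂).symm t ≫ (S.map U).g := (e S.X₃).injective
          (((Ext.mk₀_bijective _ _).injective hy).symm.trans
            ((congrArg (· ≫ S.g) ((e S.X₂).apply_symm_apply t)).symm.trans (he _ _).symm))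
        have h0 : ∀ t' : Y ⟶ (S.map U).X₂, (Ext.mk₀ (t' ≫ (S.map U).g)).comp hT.extClass rfl = 0 :=
          fun t' => by
            rw [← Ext.mk₀_comp_mk₀, Ext.comp_assoc_of_second_deg_zero, hT.comp_extClass, Ext.comp_zero]
        exact (congrArg (fun ψ => (Ext.mk₀ ψ).comp hT.extClass rfl) hφ).trans (h0 _)
      · obtain ⟨y, hy⟩ := Ext.covariant_sequence_exact₃ Y hT _ rfl hx
        obtain ⟨t, rfl⟩ : ∃ t, Ext.mk₀ t = y := ⟨_, Ext.mk₀_homEquiv₀_apply y⟩
        rw [Ext.mk₀_comp_mk₀] at hy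
        have hφ : e S.X₃ φ = e S.X₂ t ≫ S.g :=
          (congrArg (e S.X₃) ((Ext.mk₀_bijective _ _).injective hy).symm).trans (he _ _)
        show (Ext.mk₀ (e S.X₃ φ)).comp hS.extClass rfl = 0
        rw [hφ, ← Ext.mk₀_comp_mk₀, Ext.comp_assoc_of_second_deg_zero, hS.comp_extClass, Ext.comp_zero]

end Groth.Agent.CohAcyc
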