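import Groth.Agent.CohAcyc.ModFree
import Groth.Agent.CohAcyc.Shift
import Groth.Agent.SiteBase.ModGrothendieck
import Mathlib.CategoryTheory.Sites.SheafCohomology.Basic

/-! # Cohomology of modules and of abelian sheaves agree -/

universe u

open CategoryTheory CategoryTheory.Limits CategoryTheory.Abelian Opposite

namespace Groth.Agent.CohAcyc

variable {C : Type u} [SmallCategory C] {J : GrothendieckTopology C} {R : Sheaf J RingCat.{u}}

lemma homEquivAdd_naturality_right {k : Sheaf J (Type u)} {M N : SheafOfModules.{u} R} (g : M ⟶ N)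
    (φ : (zF J).obj k ⟶ (SheafOfModules.toSheaf R).obj M) :
    homEquivAdd k N (φ ≫ (SheafOfModules.toSheaf R).map g) = homEquivAdd k M φ ≫ g := by
  show ((oAdj R).homEquiv k N).symm ((zAdj J).homEquiv k _ (φ ≫ (SheafOfModules.toSheaf R).map g)) =
    ((oAdj R).homEquiv k M).symm ((zAdj J).homEquiv k _ φ) ≫ g
  rw [Adjunction.homEquiv_naturality_right]
  exact (oAdj R).homEquiv_naturality_right_symm _ _

/-- `Ext_R(R[K], M) = Ext(Z[K], M)` -/
theorem nonempty_ext_oF [HasExt.{u} (SheafOfModules.{u} R)] (k : Sheaf J (Type u)) (M : SheafOfModules.{u} R)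
    (p : ℕ) :
    Nonempty (Ext ((oF R).obj k) M p ≃+ Ext ((zF J).obj k) ((SheafOfModules.toSheaf R).obj M) p) := by
  haveI : PreservesColimitsOfSize.{u, u} (SheafOfModules.toSheaf.{u} R) := inferInstance
  haveI : PreservesFiniteColimits (SheafOfModules.toSheaf.{u} R) :=
    PreservesColimitsOfSize.preservesFiniteColimits.{u, u} _
  exact nonempty_ext_equiv (SheafOfModules.toSheaf R) (fun M => homEquivAdd k M)
    homEquivAdd_naturality_right
    (fun I _ q => isTotallyAcyclic_injective I k q) p M

variable (J) in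
/-- the point sheaf -/
def ptSh : Sheaf J (Type u) :=
  ⟨(Functor.const Cᵒᵖ).obj PUnit, fun _ _ _ _ x _ => ⟨↾fun _ => PUnit.unit, fun _ _ _ => rfl, fun _ _ => rfl⟩⟩

/-- sections of a sheaf of modules as maps from the point -/
def sectionsEquiv (M : SheafOfModules.{u} R) : M.sections ≃ (ptSh J ⟶ (oForget R).obj M) where
  toFun s := ⟨{ app := fun U => ↾fun _ => s.val U
                naturality := fun U V g => by ext; exact (s.property g).symm }⟩
  invFun f := ⟨fun U => f.hom.app U PUnit.unit, fun {U V} g =>
    (ConcreteCategory.congr_hom (f.hom.naturality g) PUnit.unit).symm⟩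
  left_inv _ := rfl
  right_inv _ := rfl

variable (R) in
/-- the structure sheaf is free on the point -/
noncomputable def unitIsoFree : SheafOfModules.unit R ≅ (oF R).obj (ptSh J) :=
  isoOfHomEquiv (fun M => ((oAdj R).homEquiv (ptSh J) M).trans ((sectionsEquiv M).symm.trans M.unitHomEquiv.symm))
    (fun {M N} g φ => by
      apply N.unitHomEquiv.injective
      rw [SheafOfModules.unitHomEquiv_comp_apply]
      simp only [Equiv.trans_apply, Equiv.apply_symm_apply, Adjunction.homEquiv_naturality_right]
      rfl)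

variable (J) in
/-- the constant sheaf on the integers is free on the point -/
noncomputable def constIsoFree :
    (constantSheaf J AddCommGrpCat.{u}).obj (AddCommGrpCat.of (ULift.{u} ℤ)) ≅ (zF J).obj (ptSh J) :=
  (constantSheaf J AddCommGrpCat.{u}).mapIso
      (AddEquiv.toAddCommGrpIso (AddEquiv.ulift.trans (FreeAbelianGroup.uniqueEquiv PUnit.{u+1}).symm) :
        AddCommGrpCat.of (ULift.{u} ℤ) ≅ AddCommGrpCat.free.{u}.obj PUnit.{u+1}) ≪≫
    (presheafToSheaf J AddCommGrpCat.{u}).mapIso
      (NatIso.ofComponents (fun _ => Iso.refl (AddCommGrpCat.free.{u}.obj PUnit.{u+1})) (fun g =>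
        (Category.comp_id _).trans ((AddCommGrpCat.free.{u}.map_id PUnit.{u+1}).trans rfl).symm))

end Groth.Agent.CohAcyc
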