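import Groth.Agent.CohAcyc.Basic
import Groth.Agent.SiteBase.ModColimits
import Mathlib.Algebra.Category.ModuleCat.Sheaf.Limits
import Mathlib.Algebra.Category.ModuleCat.Presheaf.Free
import Mathlib.CategoryTheory.Adjunction.Restrict

/-! # Free sheaves of modules on sheaves of sets and their Čech resolutions -/

universe u

open CategoryTheory CategoryTheory.Limits CategoryTheory.Abelian Opposite AlgebraicTopology
open scoped Simplicial

namespace Groth.Agent.CohAcyc

variable {C : Type u} [SmallCategory C] {J : GrothendieckTopology C} (R : Sheaf J RingCat.{u})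

/-- free presheaf of modules -/
noncomputable abbrev freeP : (Cᵒᵖ ⥤ Type u) ⥤ PresheafOfModules.{u} R.obj :=
  PresheafOfModules.free.{u} R.obj

/-- sheafification of presheaves of modules -/
noncomputable abbrev shP : PresheafOfModules.{u} R.obj ⥤ SheafOfModules.{u} R :=
  PresheafOfModules.sheafification.{u} (𝟙 R.obj)

/-- free sheaf of modules on a sheaf of sets -/
noncomputable abbrev oF : Sheaf J (Type u) ⥤ SheafOfModules.{u} R :=
  sheafToPresheaf J (Type u) ⋙ freeP R ⋙ shP R

/-- underlying sheaf of sets -/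
noncomputable abbrev oForget : SheafOfModules.{u} R ⥤ Sheaf J (Type u) :=
  SheafOfModules.toSheaf R ⋙ sheafCompose J (CategoryTheory.forget AddCommGrpCat.{u})

/-- the adjunction on presheaves -/
noncomputable def pAdj : freeP R ⋙ shP R ⊣ oForget R ⋙ sheafToPresheaf J (Type u) :=
  ((PresheafOfModules.freeAdjunction R.obj).comp
    (PresheafOfModules.sheafificationAdjunction.{u} (𝟙 R.obj))).ofNatIsoRight (Iso.refl _)

/-- the adjunction -/
noncomputable def oAdj : oF R ⊣ oForget R :=
  (pAdj R).restrictFullyFaithful (fullyFaithfulSheafToPresheaf J (Type u)) (.id _)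
    (Functor.rightUnitor _).symm (Functor.leftUnitor _)

variable {R}

lemma oHom_add {k : Sheaf J (Type u)} {M : SheafOfModules.{u} R} (a b : (oF R).obj k ⟶ M)
    (U : Cᵒᵖ) (x : k.obj.obj U) :
    ((oAdj R).homEquiv k M (a + b)).hom.app U x =
      @id (((SheafOfModules.toSheaf R).obj M).obj.obj U) (((oAdj R).homEquiv k M a).hom.app U x) +
        @id (((SheafOfModules.toSheaf R).obj M).obj.obj U) (((oAdj R).homEquiv k M b).hom.app U x) := by
  simp only [Adjunction.homEquiv_unit]
  rfl

lemma zHom_add {k : Sheaf J (Type u)} {F : Ab J} (a b : (zF J).obj k ⟶ F)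
    (U : Cᵒᵖ) (x : k.obj.obj U) :
    ((zAdj J).homEquiv k F (a + b)).hom.app U x =
      @id (F.obj.obj U) (((zAdj J).homEquiv k F a).hom.app U x) +
        @id (F.obj.obj U) (((zAdj J).homEquiv k F b).hom.app U x) := by
  simp only [Adjunction.homEquiv_unit]
  rfl

/-- `Hom(Z[k], M) = Hom_R(R[k], M)` -/
noncomputable def homEquivAdd (k : Sheaf J (Type u)) (M : SheafOfModules.{u} R) :
    ((zF J).obj k ⟶ (SheafOfModules.toSheaf R).obj M) ≃+ ((oF R).obj k ⟶ M) where
  toEquiv := ((zAdj J).homEquiv k _).trans ((oAdj R).homEquiv k M).symm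
  map_add' a b := by
    apply ((oAdj R).homEquiv k M).injective
    refine (Equiv.apply_symm_apply _ _).trans ?_
    apply Sheaf.hom_ext
    ext U x
    refine (zHom_add a b U x).trans ?_
    refine Eq.trans ?_ (oHom_add _ _ U x).symm
    simp only [Equiv.toFun_as_coe, Equiv.trans_apply, Equiv.apply_symm_apply]

lemma homEquivAdd_naturality {k k' : Sheaf J (Type u)} (g : k' ⟶ k) {M : SheafOfModules.{u} R}
    (φ : (zF J).obj k ⟶ (SheafOfModules.toSheaf R).obj M) :
    homEquivAdd k' M ((zF J).map g ≫ φ) = (oF R).map g ≫ homEquivAdd k M φ := by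
  show ((oAdj R).homEquiv k' M).symm ((zAdj J).homEquiv k' _ ((zF J).map g ≫ φ)) =
    (oF R).map g ≫ ((oAdj R).homEquiv k M).symm ((zAdj J).homEquiv k _ φ)
  rw [Adjunction.homEquiv_naturality_left]
  exact (oAdj R).homEquiv_naturality_left_symm _ _

variable (R)
variable {K' K : Sheaf J (Type u)}

/-- free Čech complex of modules -/
noncomputable abbrev oCech (f : K' ⟶ K) : ChainComplex (SheafOfModules.{u} R) ℕ :=
  AlternatingFaceMapComplex.obj
    (((SimplicialObject.Augmented.whiskering _ _).obj (oF R)).obj (Arrow.mk f).augmentedCechNerve).left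

variable {R}

lemma homEquivAdd_objD (X : SimplicialObject (Sheaf J (Type u))) (M : SheafOfModules.{u} R) (n : ℕ)
    (φ : (zF J).obj (X.obj (op ⦋n⦌)) ⟶ (SheafOfModules.toSheaf R).obj M) :
    homEquivAdd (X.obj (op ⦋n + 1⦌)) M
        ((∑ i : Fin (n + 2), (-1 : ℤ) ^ (i : ℕ) • (zF J).map (X.δ i)) ≫ φ) =
      (∑ i : Fin (n + 2), (-1 : ℤ) ^ (i : ℕ) • (oF R).map (X.δ i)) ≫ homEquivAdd (X.obj (op ⦋n⦌)) M φ := by
  rw [Preadditive.sum_comp, Preadditive.sum_comp, map_sum]
  refine Finset.sum_congr rfl fun i _ => ?_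
  rw [Preadditive.zsmul_comp, Preadditive.zsmul_comp, map_zsmul, homEquivAdd_naturality]

lemma homEquivAdd_d (f : K' ⟶ K) (M : SheafOfModules.{u} R) (n : ℕ)
    (φ : (zCech f).X n ⟶ (SheafOfModules.toSheaf R).obj M) :
    homEquivAdd ((Arrow.mk f).cechNerve.obj (op ⦋n + 1⦌)) M ((zCech f).d (n + 1) n ≫ φ) =
      (oCech R f).d (n + 1) n ≫ homEquivAdd ((Arrow.mk f).cechNerve.obj (op ⦋n⦌)) M φ := by
  simp only [AlternatingFaceMapComplex.obj, ChainComplex.of_d, AlternatingFaceMapComplex.objD]
  exact homEquivAdd_objD (Arrow.mk f).cechNerve M n φ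

/-- Čech exactness for modules gives it for the underlying abelian sheaves. -/
theorem homExact_toSheaf (f : K' ⟶ K) (M : SheafOfModules.{u} R) (h : HomExact (oCech R f) M) :
    HomExact (zCech f) ((SheafOfModules.toSheaf R).obj M) := by
  intro n φ hφ
  obtain ⟨ψ, hψ⟩ := h n (homEquivAdd ((Arrow.mk f).cechNerve.obj (op ⦋n + 1⦌)) M φ)
    ((homEquivAdd_d f M (n + 1) φ).symm.trans ((congrArg _ hφ).trans (map_zero _)))
  refine ⟨(homEquivAdd ((Arrow.mk f).cechNerve.obj (op ⦋n⦌)) M).symm ψ, ?_⟩
  apply (homEquivAdd ((Arrow.mk f).cechNerve.obj (op ⦋n + 1⦌)) M).injective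
  exact (homEquivAdd_d f M n _).trans ((congrArg _ (AddEquiv.apply_symm_apply _ _)).trans hψ)

/-- An exact augmented complex with injective coefficient (no `Ext` needed). -/
theorem homExact_injective {A : Type*} [Category* A] [Abelian A] {P : ChainComplex A ℕ} {Z : A}
    {ε : P.X 0 ⟶ Z} (h : IsRes P ε) (I : A) [Injective I] : HomExact P I :=
  fun n φ hφ => ⟨(h.exact n).descToInjective φ hφ, (h.exact n).comp_descToInjective φ hφ⟩

section Engine

open Groth.Agent.S6161

/-- A functor commuting with evaluation turns Čech nerves of epimorphisms into resolutions. -/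
theorem quasiIso_cech (f : K' ⟶ K) (W : (Cᵒᵖ ⥤ Type u) ⥤ PresheafOfModules.{u} R.obj)
    (hW : ∀ U : Cᵒᵖ, Nonempty ((((SimplicialObject.Augmented.whiskering _ _).obj
      (W ⋙ PresheafOfModules.toPresheaf R.obj ⋙ (evaluation Cᵒᵖ AddCommGrpCat.{u}).obj U)).obj
        (nerveImg f)).ExtraDegeneracy))
    (hι : IsIso ((shP R).map (W.map (imgι f)))) :
    QuasiIso (AlternatingFaceMapComplex.ε.app
      (((SimplicialObject.Augmented.whiskering _ _).obj
        (sheafToPresheaf J (Type u) ⋙ W ⋙ shP R)).obj (Arrow.mk f).augmentedCechNerve)) := by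
  let X := ((SimplicialObject.Augmented.whiskering _ _).obj (W ⋙ shP R)).obj (nerveImg f)
  let φ := ((SimplicialObject.Augmented.whiskering _ _).obj (W ⋙ shP R)).map (compareImg f)
  haveI : IsIso (SimplicialObject.Augmented.point.map φ) := hι
  haveI : IsIso φ.left := by
    show IsIso (((SimplicialObject.whiskering _ _).obj _).map (𝟙 _))
    infer_instance
  haveI : IsIso (SimplicialObject.Augmented.drop.map φ) := inferInstanceAs (IsIso φ.left)
  suffices hX : QuasiIso (AlternatingFaceMapComplex.ε.app X) from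
    (quasiIso_iff_of_arrow_mk_iso _ _ (Arrow.isoMk
      ((alternatingFaceMapComplex _).mapIso (asIso (SimplicialObject.Augmented.drop.map φ)))
      ((ChainComplex.single₀ _).mapIso (asIso (SimplicialObject.Augmented.point.map φ)))
      (AlternatingFaceMapComplex.ε.naturality φ))).1 hX
  let Y := ((SimplicialObject.Augmented.whiskering _ _).obj W).obj (nerveImg f)
  let P := PresheafOfModules.toPresheaf R.obj
  haveI : (shP R).Additive := Functor.additive_of_preserves_binary_products _
  have hY' : QuasiIso (AlternatingFaceMapComplex.ε.app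
      (((SimplicialObject.Augmented.whiskering _ _).obj P).obj Y)) := by
    rw [HomologicalComplex.quasiIso_iff_evaluation]
    intro U
    rw [quasiIso_iff_of_arrow_mk_iso _ _ (mapεArrowIso ((evaluation Cᵒᵖ AddCommGrpCat.{u}).obj U) _)]
    exact (hW U).some.homotopyEquiv.quasiIso_hom
  haveI : QuasiIso (AlternatingFaceMapComplex.ε.app Y) :=
    (HomologicalComplex.quasiIso_map_iff_of_preservesHomology _ P).1
      ((quasiIso_iff_of_arrow_mk_iso _ _ (mapεArrowIso P Y)).2 hY')
  exact (quasiIso_iff_of_arrow_mk_iso _ _ (mapεArrowIso (shP R) Y)).1 inferInstance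

/-- free modules invert the inclusion of the presheaf image of an epimorphism -/
theorem isIso_freeP_imgι (f : K' ⟶ K) [Epi f] : IsIso ((shP R).map ((freeP R).map (imgι f))) := by
  have h : ∀ S : SheafOfModules.{u} R, Function.Bijective
      fun g : (freeP R ⋙ shP R).obj K.obj ⟶ S => (freeP R ⋙ shP R).map (imgι f) ≫ g := fun S => by
    have e : (fun g : (freeP R ⋙ shP R).obj K.obj ⟶ S => (freeP R ⋙ shP R).map (imgι f) ≫ g) =
        ((pAdj R).homEquiv _ _).symm ∘ (fun t => imgι f ≫ t) ∘ (pAdj R).homEquiv _ _ := by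
      funext g
      simp only [Function.comp_apply]
      exact ((pAdj R).homEquiv_naturality_left_symm _ _).trans (congrArg (_ ≫ ·) (Equiv.symm_apply_apply _ _)) |>.symm
    rw [e]
    exact ((pAdj R).homEquiv _ _).symm.bijective.comp
      ((W_imgι f _ ((oForget R).obj S).property).comp ((pAdj R).homEquiv _ _).bijective)
  obtain ⟨g, hg⟩ := (h _).2 (𝟙 _)
  refine ⟨g, hg, (h _).1 ?_⟩
  simp only [Functor.comp_map] at hg ⊢
  rw [reassoc_of% hg]
  exact (Category.comp_id _).symm

variable (R) in
/-- free modules on the Čech nerve of an epimorphism form a resolution -/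
theorem isRes_oCech (f : K' ⟶ K) [Epi f] : ∃ ε : (oCech R f).X 0 ⟶ (oF R).obj K, IsRes (oCech R f) ε :=
  have := quasiIso_cech f (freeP R)
    (fun U => ⟨(extraDeg f U).map (ModuleCat.free (R.obj.obj U) ⋙ forget₂ _ AddCommGrpCat.{u})⟩)
    (isIso_freeP_imgι f)
  ⟨_, @isRes_of_quasiIso _ _ _ _ _ _ this⟩

end Engine

/-- Injective sheaves of modules are totally acyclic. -/
theorem isTotallyAcyclic_injective (I : SheafOfModules.{u} R) [Injective I] :
    CohCx.IsTotallyAcyclic ((SheafOfModules.toSheaf R).obj I) :=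
  isTotallyAcyclic_of_cech _ fun k' k f hf => by
    haveI := hf
    obtain ⟨ε, h⟩ := isRes_oCech R f
    exact homExact_toSheaf f I (homExact_injective h I)

end Groth.Agent.CohAcyc
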