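import Groth.Agent.CohAcyc.ModFree
import Groth.Agent.SiteBase.ModFlat

/-! # Internal homs into injective modules are totally acyclic -/

universe u

open CategoryTheory CategoryTheory.Limits CategoryTheory.Abelian Opposite AlgebraicTopology MonoidalCategory
open scoped Simplicial

namespace Groth.Agent.CohAcyc

open Groth.Agent.SiteBase Groth.Agent.S6161

variable {C : Type u} [SmallCategory C] {J : GrothendieckTopology C} {O : Sheaf J CommRingCat.{u}}
  {K' K : Sheaf J (Type u)}

/-- locally bijective from an iso after sheafification -/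
lemma isIso_sh_map_tensor {A B : PMod O} (g : A ⟶ B) (h : IsIso ((sh O).map g)) (P : PMod O) :
    IsIso ((sh O).map (g ▷ P)) := by
  have h' : IsIso ((presheafToSheaf J AddCommGrpCat.{u}).map ((PresheafOfModules.toPresheaf _).map g)) :=
    inferInstanceAs (IsIso ((SheafOfModules.toSheaf.{u} (ModSite.ringSh O)).map ((sh O).map g)))
  obtain ⟨h1, h2⟩ := (J.W_iff_isLocallyBijective _).1 ((J.W_iff _).2 h')
  exact isIso_sh_map_whiskerRight g P

variable (O) in
/-- free presheaves of modules, with the ring presheaf spelled for tensor products -/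
noncomputable abbrev freePO : (Cᵒᵖ ⥤ Type u) ⥤ PMod O :=
  PresheafOfModules.free.{u} (O.obj ⋙ forget₂ CommRingCat.{u} RingCat.{u})

/-- `(R[k] ⊗ F)` computed on presheaves -/
noncomputable def oTensorIso (F : ModSite.Mod O) :
    sheafToPresheaf J (Type u) ⋙
        (freePO O ⋙ tensorRight ((incl O).obj F)) ⋙ sh O ≅
      oF (ModSite.ringSh O) ⋙ (ModSite.tensorBi O).flip.obj F :=
  Functor.isoWhiskerLeft (sheafToPresheaf J (Type u) ⋙ freePO O)
    (tensorDescIso O ((incl O).obj F))

/-- free Čech resolutions stay resolutions after tensoring with any module -/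
theorem isRes_tensor_oCech (F : ModSite.Mod O) (f : K' ⟶ K) [Epi f] :
    ∃ (Z : ModSite.Mod O) (ε : ((((ModSite.tensorBi O).flip.obj F).mapHomologicalComplex _).obj
      (oCech (ModSite.ringSh O) f)).X 0 ⟶ Z),
      IsRes ((((ModSite.tensorBi O).flip.obj F).mapHomologicalComplex (ComplexShape.down ℕ)).obj
        (oCech (ModSite.ringSh O) f)) ε := by
  let T := (ModSite.tensorBi O).flip.obj F
  let W : (Cᵒᵖ ⥤ Type u) ⥤ PMod O :=
    freePO O ⋙ tensorRight ((incl O).obj F)
  have h1 := quasiIso_cech f (R := ModSite.ringSh O) W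
    (fun U => ⟨(extraDeg f U).map (ModuleCat.free (O.obj.obj U) ⋙
      tensorRight (C := ModuleCat (O.obj.obj U)) (((incl O).obj F).obj U) ⋙ forget₂ _ AddCommGrpCat.{u})⟩)
    (isIso_sh_map_tensor _ (isIso_freeP_imgι f) _)
  let a := (Arrow.mk f).augmentedCechNerve
  let aug := ((SimplicialObject.Augmented.whiskering _ _).obj (oF (ModSite.ringSh O))).obj a
  have h2 : QuasiIso (AlternatingFaceMapComplex.ε.app
      (((SimplicialObject.Augmented.whiskering _ _).obj T).obj aug)) :=
    by
      let e := ((SimplicialObject.Augmented.whiskering _ (ModSite.Mod O)).mapIso (oTensorIso F)).app a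
      exact (quasiIso_iff_of_arrow_mk_iso _ _ (Arrow.isoMk
        ((alternatingFaceMapComplex _).mapIso (SimplicialObject.Augmented.drop.mapIso e))
        ((ChainComplex.single₀ _).mapIso (SimplicialObject.Augmented.point.mapIso e))
        (AlternatingFaceMapComplex.ε.naturality e.hom))).1 h1
  haveI : QuasiIso (((T.mapHomologicalComplex (ComplexShape.down ℕ)).map (AlternatingFaceMapComplex.ε.app aug))) :=
    (quasiIso_iff_of_arrow_mk_iso _ _ (mapεArrowIso T aug)).2 h2
  refine ⟨_, _, isRes_of_quasiIso ((T.mapHomologicalComplex (ComplexShape.down ℕ)).map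
    (AlternatingFaceMapComplex.ε.app aug) ≫
      ((HomologicalComplex.singleMapHomologicalComplex T (ComplexShape.down ℕ) 0).app _).hom)⟩

theorem isTotallyAcyclic_sheafHom (F G : ModSite.Mod O) [ModSite.HasSheafHom F] [Injective G] :
    CohCx.IsTotallyAcyclic (ModSite.toAb ((ModSite.sheafHom F).obj G)) :=
  isTotallyAcyclic_of_cech _ fun k' k f hf => by
    haveI := hf
    obtain ⟨Z, ε, h⟩ := isRes_tensor_oCech F f
    exact homExact_toSheaf f _ (homExact_of_adjunction (ModSite.sheafHomAdj F) (homExact_injective h G))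

end Groth.Agent.CohAcyc
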