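import Groth.Agent.CohAcyc.Sections
import Mathlib.CategoryTheory.Sites.SheafOfTypes
import Mathlib.CategoryTheory.Preadditive.Injective.Basic

/-! # Cohomology of covering sieves in presheaves -/

universe u

open CategoryTheory CategoryTheory.Limits CategoryTheory.Abelian Opposite

namespace Groth.Agent.CohAcyc

variable {C : Type u} [SmallCategory C] (J : GrothendieckTopology C)

/-- a sheaf as a presheaf, i.e. a sheaf for the trivial topology -/
def toBot : Ab J ⥤ Ab (⊥ : GrothendieckTopology C) where
  obj F := ⟨F.obj, Presheaf.isSheaf_bot _⟩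
  map f := ⟨f.hom⟩

instance toBot_additive : (toBot J).Additive where
  map_add := rfl

/-- `toBot` through sheafification for the trivial topology -/
noncomputable def toBotIso :
    sheafToPresheaf J AddCommGrpCat.{u} ⋙ presheafToSheaf (⊥ : GrothendieckTopology C) AddCommGrpCat.{u} ≅
      toBot J :=
  Functor.isoWhiskerLeft (toBot J) (asIso (sheafificationAdjunction (⊥ : GrothendieckTopology C) AddCommGrpCat.{u}).counit) ≪≫
    (toBot J).rightUnitor

instance toBot_preservesFiniteLimits : PreservesFiniteLimits (toBot J) :=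
  haveI : PreservesFiniteLimits
      (sheafToPresheaf J AddCommGrpCat.{u} ⋙ presheafToSheaf (⊥ : GrothendieckTopology C) AddCommGrpCat.{u}) :=
    comp_preservesFiniteLimits _ _
  preservesFiniteLimits_of_natIso (toBotIso J)

instance injective_toBot (I : Ab J) [Injective I] : Injective ((toBot J).obj I) where
  factors {X Y} g f _ := by
    haveI : Injective ((sheafToPresheaf J AddCommGrpCat.{u}).obj I) :=
      Injective.injective_of_adjoint (sheafificationAdjunction J AddCommGrpCat.{u}) I
    haveI : Mono f.hom :=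
      inferInstanceAs (Mono ((sheafToPresheaf (⊥ : GrothendieckTopology C) AddCommGrpCat.{u}).map f))
    exact ⟨⟨Injective.factorThru (J := (sheafToPresheaf J AddCommGrpCat.{u}).obj I) g.hom f.hom⟩,
      ObjectProperty.hom_ext _ (Injective.comp_factorThru (J := (sheafToPresheaf J AddCommGrpCat.{u}).obj I) g.hom f.hom)⟩

variable {J}

lemma shortExact_toBot {S : ShortComplex (Ab J)} (hS : S.ShortExact)
    (hs : ∀ U, Function.Surjective (S.g.hom.app (op U))) : (S.map (toBot J)).ShortExact :=
  shortExact_of_rightExact _ hS (epi_of_surjective _ fun U => hs U)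

/-- the sieve as a sheaf for the trivial topology -/
noncomputable abbrev sieveObj {X : C} (R : Sieve X) : Sheaf (⊥ : GrothendieckTopology C) (Type u) :=
  ⟨R.functor, Presheaf.isSheaf_bot _⟩

/-- maps out of `Z[R]` in presheaves -/
noncomputable def sieveEquiv {X : C} (R : Sieve X) (G : Ab (⊥ : GrothendieckTopology C)) :
    ((zF _).obj (sieveObj R) ⟶ G) ≃ (R.functor ⟶ G.obj ⋙ CategoryTheory.forget AddCommGrpCat.{u}) :=
  ((zAdj _).homEquiv _ _).trans
    { toFun := fun φ => φ.hom
      invFun := fun φ => ⟨φ⟩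
      left_inv := fun _ => rfl
      right_inv := fun _ => rfl }

lemma sieveEquiv_comp {X : C} (R : Sieve X) {G H : Ab (⊥ : GrothendieckTopology C)}
    (φ : (zF _).obj (sieveObj R) ⟶ G) (h : G ⟶ H) :
    sieveEquiv R H (φ ≫ h) = sieveEquiv R G φ ≫ Functor.whiskerRight h.hom _ := by
  simp only [sieveEquiv, Equiv.trans_apply]
  rw [Adjunction.homEquiv_naturality_right]
  rfl

lemma exists_extend_sieve (F : Ab J) {X : C} (R : Sieve X) (hR : R ∈ J X)
    (φ : R.functor ⟶ F.obj ⋙ CategoryTheory.forget AddCommGrpCat.{u}) :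
    ∃! g : yoneda.obj X ⟶ F.obj ⋙ CategoryTheory.forget AddCommGrpCat.{u}, R.functorInclusion ≫ g = φ := by
  have h : Presieve.IsSheaf J (F.obj ⋙ CategoryTheory.forget AddCommGrpCat.{u}) :=
    (isSheaf_iff_isSheaf_of_type _ _).1
      (Presheaf.isSheaf_comp_of_isSheaf J _ (CategoryTheory.forget AddCommGrpCat.{u}) F.property)
  exact Presieve.isSheafFor_iff_yonedaSheafCondition.1 (h R hR) φ

lemma subsingleton_inj_toBot (Y : Ab (⊥ : GrothendieckTopology C)) (F : Ab J) (q : ℕ) :
    Subsingleton (Ext Y ((injSeq F).map (toBot J)).X₂ (q + 1)) :=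
  Ext.subsingleton_of_injective Y ((toBot J).obj (injSeq F).X₂) q

/-- acyclic on objects implies vanishing on covering sieves -/
theorem sieve_vanishing (q : ℕ) : ∀ (F : Ab J), (∀ (U : C) (q : ℕ), Subsingleton (CohSite.HU F (q + 1) U)) →
    ∀ {X : C} (R : Sieve X), R ∈ J X →
      Subsingleton (Ext ((zF _).obj (sieveObj R)) ((toBot J).obj F) (q + 1)) := by
  induction q with
  | zero =>
    intro F hF X R hR
    have hsur : ∀ U, Function.Surjective ((injSeq F).g.hom.app (op U)) := fun U =>
      surjective_of_acyclic (injSeq_shortExact F) U (hF U 0)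
    refine subsingleton_one_of_lift (shortExact_toBot (injSeq_shortExact F) hsur)
      (subsingleton_inj_toBot _ F 0) fun s => ?_
    obtain ⟨g, hg, -⟩ := exists_extend_sieve (injSeq F).X₃ R hR (sieveEquiv R _ s)
    obtain ⟨t, ht⟩ := hsur X (yonedaEquiv g)
    refine ⟨(sieveEquiv R _).symm (R.functorInclusion ≫ yonedaEquiv.symm t),
      (sieveEquiv R _).injective ?_⟩
    rw [sieveEquiv_comp, Equiv.apply_symm_apply, Category.assoc]
    refine (congrArg (R.functorInclusion ≫ ·) ?_).trans hg
    apply yonedaEquiv.injective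
    refine (yonedaEquiv_comp _ _).trans ?_
    rw [Equiv.apply_symm_apply]
    exact ht
  | succ q ih =>
    intro F hF X R hR
    exact subsingleton_succ_of_ses
      (shortExact_toBot (injSeq_shortExact F) fun U => surjective_of_acyclic (injSeq_shortExact F) U (hF U 0))
      (ih _ (acyclic_injSeq_quot hF) R hR)
      (subsingleton_inj_toBot _ F (q + 1))

lemma exists_sieve_hom {E T : Ab (⊥ : GrothendieckTopology C)} {G : Cᵒᵖ ⥤ AddCommGrpCat.{u}}
    (π : E ⟶ T) (m : T.obj ⟶ G) (hmi : ∀ U, Function.Injective (m.app U)) {X : C} (R : Sieve X)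
    (s : G.obj (op X))
    (hs : ∀ (U : Cᵒᵖ) (a : R.functor.obj U), ∃ e, m.app U (π.hom.app U e) = G.map a.1.op s) :
    ∃ σ : R.functor ⟶ T.obj ⋙ CategoryTheory.forget AddCommGrpCat.{u},
      σ ≫ Functor.whiskerRight m _ = R.functorInclusion ≫ yonedaEquiv.symm s := by
  refine ⟨{ app := fun U => ↾(fun a => π.hom.app U (hs U a).choose)
            naturality := fun U V g => ?_ }, ?_⟩
  · ext a
    apply hmi V
    refine (hs V _).choose_spec.trans (Eq.trans ?_
      (NatTrans.naturality_apply m g (π.hom.app U (hs U a).choose)).symm)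
    rw [(hs U a).choose_spec]
    exact ConcreteCategory.congr_hom (G.map_comp a.1.op g) s
  · ext U a
    exact (hs U a).choose_spec

/-- the presheaf cokernel of `S.f` embeds in `S.X₃` -/
lemma mono_desc_toBot {S : ShortComplex (Ab J)} (hS : S.ShortExact)
    (w : (toBot J).map S.f ≫ (toBot J).map S.g = 0) :
    Mono (cokernel.desc ((toBot J).map S.f) ((toBot J).map S.g) w) :=
  haveI := hS.mono_f
  (ShortComplex.exact_iff_mono_cokernel_desc (S.map (toBot J))).1
    (ShortComplex.exact_of_f_is_kernel _ (KernelFork.mapIsLimit _ hS.fIsKernel (toBot J)))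

lemma injective_of_mono_bot {T G : Ab (⊥ : GrothendieckTopology C)} (m : T ⟶ G) [Mono m] (U : Cᵒᵖ) :
    Function.Injective (m.hom.app U) := by
  haveI : Mono m.hom :=
    inferInstanceAs (Mono ((sheafToPresheaf (⊥ : GrothendieckTopology C) AddCommGrpCat.{u}).map m))
  exact (AddCommGrpCat.mono_iff_injective _).1 inferInstance

lemma yoneda_eq_of_sieve (F : Ab J) {X : C} (R : Sieve X) (hR : R ∈ J X)
    (g g' : yoneda.obj X ⟶ F.obj ⋙ CategoryTheory.forget AddCommGrpCat.{u})
    (h : R.functorInclusion ≫ g = R.functorInclusion ≫ g') : g = g' := by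
  obtain ⟨_, -, hu⟩ := exists_extend_sieve F R hR (R.functorInclusion ≫ g)
  exact (hu g rfl).trans (hu g' h.symm).symm

/-- vanishing of `H¹` on sieves lets sections lift -/
theorem surjective_of_sieve_vanishing {S : ShortComplex (Ab J)} (hS : S.ShortExact)
    (h : ∀ {X : C} (R : Sieve X), R ∈ J X →
      Subsingleton (Ext ((zF _).obj (sieveObj R)) ((toBot J).obj S.X₁) 1))
    (X : C) : Function.Surjective (S.g.hom.app (op X)) := by
  intro s
  haveI := hS.epi_g
  haveI := hS.mono_f
  haveI : Presheaf.IsLocallySurjective J S.g.hom :=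
    (Sheaf.isLocallySurjective_iff_epi' (A := AddCommGrpCat.{u}) S.g).2 inferInstance
  let R := Presheaf.imageSieve S.g.hom s
  have hR : R ∈ J X := Presheaf.imageSieve_mem J S.g.hom s
  haveI : Mono ((toBot J).map S.f) := (toBot J).map_mono S.f
  have w : (toBot J).map S.f ≫ (toBot J).map S.g = 0 :=
    ((toBot J).map_comp _ _).symm.trans ((congrArg _ S.zero).trans ((toBot J).map_zero _ _))
  haveI := mono_desc_toBot hS w
  have hπm : ((cokernel.π ((toBot J).map S.f)) ≫ cokernel.desc _ ((toBot J).map S.g) w).hom = S.g.hom :=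
    congrArg (fun φ => φ.hom) (cokernel.π_desc _ ((toBot J).map S.g) w)
  obtain ⟨σ, hσ⟩ := exists_sieve_hom (cokernel.π ((toBot J).map S.f))
    (cokernel.desc _ ((toBot J).map S.g) w).hom (injective_of_mono_bot _) R s
    (fun U a => ⟨a.2.choose, (ConcreteCategory.congr_hom (congr_app hπm U) a.2.choose).trans a.2.choose_spec⟩)
  obtain ⟨t, ht⟩ := lift_of_subsingleton
    (S := ShortComplex.mk ((toBot J).map S.f) (cokernel.π _) (cokernel.condition _))
    { exact := ShortComplex.exact_cokernel _ } (h R hR) ((sieveEquiv R _).symm σ)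
  replace ht : t ≫ cokernel.π ((toBot J).map S.f) = (sieveEquiv R _).symm σ := ht
  have ht' : sieveEquiv R _ t ≫ Functor.whiskerRight (cokernel.π ((toBot J).map S.f)).hom _ = σ := by
    rw [← sieveEquiv_comp, ht, Equiv.apply_symm_apply]
  obtain ⟨g, hg, -⟩ := exists_extend_sieve S.X₂ R hR (sieveEquiv R _ t)
  refine ⟨yonedaEquiv g, ?_⟩
  have h1 : R.functorInclusion ≫ g ≫ Functor.whiskerRight S.g.hom _ = R.functorInclusion ≫ yonedaEquiv.symm s := by
    refine Eq.trans ?_ hσ
    rw [← Category.assoc, hg, ← ht', Category.assoc, ← Functor.whiskerRight_comp, ← hπm]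
    rfl
  exact (yonedaEquiv_comp _ _).symm.trans
    ((congrArg yonedaEquiv (yoneda_eq_of_sieve S.X₃ R hR _ _ h1)).trans (Equiv.apply_symm_apply _ _))

/-- vanishing on covering sieves implies acyclic on objects -/
theorem acyclic_of_sieve_vanishing (q : ℕ) : ∀ (F : Ab J),
    (∀ {X : C} (R : Sieve X), R ∈ J X → ∀ q : ℕ,
      Subsingleton (Ext ((zF _).obj (sieveObj R)) ((toBot J).obj F) (q + 1))) →
    ∀ X, Subsingleton (CohSite.HU F (q + 1) X) := by
  induction q with
  | zero =>
    intro F hF X
    exact (subsingleton_HU_iff _ _ _).2 (subsingleton_one_of_lift (injSeq_shortExact F)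
      (Ext.subsingleton_of_injective _ _ 0) ((lift_iff_surjective X _).2
        (surjective_of_sieve_vanishing (injSeq_shortExact F) (fun R hR => hF R hR 0) X)))
  | succ q ih =>
    intro F hF X
    have hS := shortExact_toBot (injSeq_shortExact F)
      (surjective_of_sieve_vanishing (injSeq_shortExact F) fun R hR => hF R hR 0)
    exact (subsingleton_HU_iff _ _ _).2 (subsingleton_succ_of_ses (injSeq_shortExact F)
      ((subsingleton_HU_iff _ _ _).1 (ih _ (fun R hR p => subsingleton_quot_of_ses hS
        (subsingleton_inj_toBot _ F p) (hF R hR (p + 1))) X))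
      (Ext.subsingleton_of_injective _ _ (q + 1)))

end Groth.Agent.CohAcyc
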